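import Cfsg.Agent.Lib.Local.ModuleBoundSL
import Cfsg.Agent.Lib.Local.ModuleBoundSLOdd
import Cfsg.Agent.Lib.Dickson.CentralizerCard
import Cfsg.Agent.S2904

/-!
Facts on `PSL₂(q)`: the Sylow subgroups of the defining characteristic have exponent `p`, and for a
proper power `q` every element of order `p` has a conjugate such that the product of the two has order
divisible by a prime power at which `p` has order `2n`.
-/

set_option autoImplicit false

namespace Cfsg.Lib.Local.Baumann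

open Subgroup

variable {F : Type*} [Field F] [Fintype F]

local notation "SL2" => Matrix.SpecialLinearGroup (Fin 2) F
local notation "PSL2" => Matrix.ProjectiveSpecialLinearGroup (Fin 2) F

theorem sylow_pow_eq_one (p : ℕ) [Fact p.Prime] [CharP F p] (P : Sylow p PSL2) {x : PSL2}
    (hx : x ∈ (P : Subgroup PSL2)) : x ^ p = 1 := by
  obtain ⟨g, hg⟩ := MulAction.exists_smul_eq PSL2 (Cfsg.Lib.Dickson.stdSylow (F := F) p) P
  rw [← hg, Sylow.coe_subgroup_smul, pointwise_smul_def] at hx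
  obtain ⟨z, hz, rfl⟩ := hx
  rw [SetLike.mem_coe, Cfsg.Lib.Dickson.stdSylow_coe] at hz
  obtain ⟨w, ⟨c, rfl⟩, rfl⟩ := hz
  show (MulAut.conj g (QuotientGroup.mk' _ (Cfsg.Lib.Linear.Two.ut c))) ^ p = 1
  have : c ^ p = 1 := by
    apply Multiplicative.toAdd.injective
    show p • c.toAdd = 0
    rw [nsmul_eq_mul, CharP.cast_eq_zero, zero_mul]
  rw [← map_pow, ← map_pow, ← map_pow, this, map_one, map_one, map_one]

theorem exists_pair (p n : ℕ) [Fact p.Prime] [CharP F p] (hn : 2 ≤ n) (hF : Fintype.card F = p ^ n) :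
    ∃ r e : ℕ, r.Prime ∧ r ≠ p ∧ (∀ k, 0 < k → r ^ (e + 1) ∣ p ^ k - 1 → 2 * n ≤ k) ∧
      ∀ u : PSL2, u ^ p = 1 → u ≠ 1 → ∃ c : PSL2, r ^ (e + 1) ∣ orderOf (u * (c⁻¹ * u * c)) := by
  have hp : p.Prime := Fact.out
  have ppd : ¬ (p = 2 ∧ n = 3) → ∃ r : ℕ, r.Prime ∧ r ≠ p ∧ r ≠ 2 ∧ r ∣ Fintype.card F + 1 ∧
      ∀ k, 0 < k → r ∣ p ^ k - 1 → 2 * n ≤ k := by
    intro h
    obtain ⟨r, hr, hd, hk⟩ := Cfsg.Agent.S2904.result p (2 * n) hp.one_lt (by omega)
      (fun h' => h ⟨h'.1, by omega⟩) (fun h' => by omega)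
    have hrp : r ≠ p := by
      rintro rfl
      have h1 : r ∣ r ^ (2 * n) := dvd_pow_self r (by omega)
      have h2 := Nat.dvd_sub h1 hd
      rw [Nat.sub_sub_self (Nat.one_le_pow _ _ hp.pos)] at h2
      exact hp.not_dvd_one h2
    refine ⟨r, hr, hrp, ?_, ?_, fun k hk0 hd' => ?_⟩
    · rintro rfl
      have : 2 ∣ p ^ 1 - 1 := by
        rw [pow_one]
        rcases hp.eq_two_or_odd with h2 | h2
        · exact absurd h2.symm hrp
        · omega
      exact hk 1 Nat.one_pos (by omega) this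
    · have hfac : p ^ (2 * n) - 1 = (p ^ n + 1) * (p ^ n - 1) := by
        rw [show (1 : ℕ) = 1 ^ 2 from rfl, mul_comm 2 n, pow_mul, Nat.sq_sub_sq, one_pow]
      rw [hfac] at hd
      rw [hF]
      exact (hr.dvd_mul.1 hd).resolve_right (hk n (by omega) (by omega))
    · by_contra hlt
      exact hk k hk0 (by omega) hd'
  rcases hp.eq_two_or_odd with hp2 | hpodd
  · subst hp2
    have hinj : Function.Injective (QuotientGroup.mk' (Subgroup.center SL2)) := by
      rw [← MonoidHom.ker_eq_bot_iff, QuotientGroup.ker_mk', ModuleBound.center_eq_bot]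
    have hreal : ∀ {N : ℕ}, Odd N → 1 < N → N ∣ Fintype.card F + 1 → ∀ u : PSL2, u ^ 2 = 1 → u ≠ 1 →
        ∃ c : PSL2, N ∣ orderOf (u * (c⁻¹ * u * c)) := by
      intro N hodd h1 hN u hu hu1
      obtain ⟨v, rfl⟩ := QuotientGroup.mk'_surjective (Subgroup.center SL2) u
      obtain ⟨c, hc⟩ := ModuleBound.sl_two_real hodd h1 hN v
        (hinj (by rw [map_mul, map_one, ← pow_two, hu])) (fun h => hu1 (by rw [h, map_one]))
      refine ⟨QuotientGroup.mk' _ c, ?_⟩
      rwa [← map_inv, ← map_mul, ← map_mul, ← map_mul, orderOf_injective _ hinj]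
    by_cases h3 : n = 3
    · subst h3
      refine ⟨3, 1, Nat.prime_three, by decide, ?_, hreal (by decide) (by norm_num) (by rw [hF]; decide)⟩
      intro k hk hd
      by_contra hlt
      have : k ≤ 5 := by omega
      interval_cases k <;> norm_num at hd
    · obtain ⟨r, hr, hrp, hr2, hN, hD⟩ := ppd (fun h => h3 h.2)
      refine ⟨r, 0, hr, hrp, fun k hk hd => hD k hk (by simpa using hd), ?_⟩
      have hodd : Odd r := hr.odd_of_ne_two hr2
      intro u hu hu1
      simpa using hreal hodd hr.one_lt hN u hu hu1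
  · have hp2 : p ≠ 2 := fun h => by omega
    obtain ⟨r, hr, hrp, hr2, hN, hD⟩ := ppd (fun h => hp2 h.1)
    refine ⟨r, 0, hr, hrp, fun k hk hd => hD k hk (by simpa using hd), fun u hu hu1 => ?_⟩
    simpa using ModuleBound.psl_two_real p hp2 hr hr2 hrp hN u hu hu1

end Cfsg.Lib.Local.Baumann
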