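import Cfsg.Agent.Lib.Local.Baumann.Moved
import Cfsg.Agent.Lib.Local.Baumann.PSLPair
import Cfsg.Agent.Lib.Local.Sylow
import Cfsg.Agent.Lib.Local.GlaubermanZJ
import Cfsg.Agent.Lib.Invol.BaerSuzuki
import Cfsg.Agent.Lib.Dickson.Maximal.Basic
import Cfsg.Agent.Lib.Dickson.Targets

/-!
Pushing up in rank one, after Baumann: if `Z(S)` is not central and a largest abelian subgroup `A` of
`S` is not in `Q = O_p(G)`, then `AQ = S`, `Z(Q)` is generated by two conjugates of `Z(S)` and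
`Z(Q)` modulo the centre of `G` has exponent `p`.
-/

set_option autoImplicit false
set_option linter.style.haveILetI false

namespace Cfsg.Lib.Local.Baumann

open Subgroup GlaubermanZJ

variable {G : Type*} [Group G] [Finite G] {p : ℕ} [Fact p.Prime]

omit [Fact p.Prime] in
theorem card_sup_mul_inf {A B : Subgroup G} (hB : B ≤ normalizer (A : Set G)) :
    Nat.card ↥(A ⊔ B) * Nat.card ↥(A ⊓ B) = Nat.card A * Nat.card B := by
  have h1 := Cfsg.Lib.Core.card_mul_relIndex (le_sup_left : A ≤ A ⊔ B)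
  have h2 := Cfsg.Lib.Core.card_mul_relIndex (inf_le_right : A ⊓ B ≤ B)
  haveI : (A.subgroupOf (A ⊔ B)).Normal :=
    (normal_subgroupOf_iff_le_normalizer le_sup_left).2 (sup_le le_normalizer hB)
  have h3 : A.relIndex (A ⊔ B) = A.relIndex B := by
    rw [← relIndex_subgroupOf (le_sup_right : B ≤ A ⊔ B), relIndex, ← relIndex_top_right,
      ← subgroupOf_self (H := A ⊔ B), subgroupOf_sup le_sup_left le_sup_right,
      sup_comm (A.subgroupOf (A ⊔ B)), relIndex_sup_right]
  rw [inf_relIndex_right] at h2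
  rw [← h1, h3, mul_assoc, mul_comm (A.relIndex B), h2]

/-- The rank one pushing-up hypotheses. -/
structure Hyp (S : Sylow p G) (F : Type) [Field F] [Fintype F] (n : ℕ) (K : Subgroup G)
    [K.Normal] : Prop where
  cent : centralizer (Cfsg.pCore p G : Set G) ≤ Cfsg.pCore p G
  uniq : ∃! M : Subgroup G, IsCoatom M ∧ (S : Subgroup G) ≤ M
  pos : 1 ≤ n
  card : Fintype.card F = p ^ n
  iso : Nonempty (G ⧸ K ≃* Matrix.ProjectiveSpecialLinearGroup (Fin 2) F)

/-- `Z(O_p(G))` inside `G`. -/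
def vOf (p : ℕ) (G : Type*) [Group G] : Subgroup G :=
  Cfsg.pCore p G ⊓ centralizer (Cfsg.pCore p G : Set G)

theorem vOf_le : vOf p G ≤ Cfsg.pCore p G := inf_le_left

theorem vOf_comm : ∀ a ∈ vOf p G, ∀ b ∈ vOf p G, a * b = b * a := fun _ ha _ hb =>
  mem_centralizer_iff.1 hb.2 _ ha.1

theorem pCore_le_centralizer_vOf : Cfsg.pCore p G ≤ centralizer (vOf p G : Set G) :=
  fun _ hq => mem_centralizer_iff.2 fun _ hv => (mem_centralizer_iff.1 hv.2 _ hq).symm

instance vOf_normal : (vOf p G).Normal := by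
  haveI : (Cfsg.pCore p G).Normal := inferInstance
  unfold vOf; infer_instance

variable {S : Sylow p G} {F : Type} [Field F] [Fintype F] {n : ℕ} {K : Subgroup G} [K.Normal]

section
variable (h : Hyp S F n K)
include h

theorem Hyp.charP : CharP F p := by
  obtain ⟨q, hq⟩ := CharP.exists F
  obtain ⟨m, hqp, hm⟩ := FiniteField.card F q
  have hd : p ∣ q ^ (m : ℕ) := by
    rw [← hm, h.card]; exact dvd_pow_self p (by have := h.pos; omega)
  rw [(Nat.prime_dvd_prime_iff_eq Fact.out hqp).1 ((Fact.out : p.Prime).dvd_of_dvd_pow hd)]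
  exact hq

/-- Two proper overgroups of `S` do not generate `G`. -/
theorem Hyp.sup_ne_top {H₁ H₂ : Subgroup G} (h₁ : (S : Subgroup G) ≤ H₁) (h₂ : (S : Subgroup G) ≤ H₂)
    (n₁ : H₁ ≠ ⊤) (n₂ : H₂ ≠ ⊤) : H₁ ⊔ H₂ ≠ ⊤ := by
  obtain ⟨M, ⟨hM, -⟩, huniq⟩ := h.uniq
  have key : ∀ H : Subgroup G, (S : Subgroup G) ≤ H → H ≠ ⊤ → H ≤ M := by
    intro H hH hne
    obtain ⟨M', hM', hle⟩ := (eq_top_or_exists_le_coatom H).resolve_left hne
    exact hle.trans (huniq M' ⟨hM', hH.trans hle⟩).le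
  exact fun e => hM.1 (top_le_iff.1 (e.ge.trans (sup_le (key _ h₁ n₁) (key _ h₂ n₂))))

/-- A normal subgroup which does not cover `G` with `S` meets `S` in `O_p(G)`. -/
theorem Hyp.inf_le_pCore {N : Subgroup G} [N.Normal] (hN : N ⊔ (S : Subgroup G) ≠ ⊤) :
    (S : Subgroup G) ⊓ N ≤ Cfsg.pCore p G := by
  obtain ⟨T, hT⟩ := exists_sylow_inf S N
  have hmap : (T : Subgroup ↥N).map N.subtype = (S : Subgroup G) ⊓ N := by
    rw [hT, subgroupOf_map_subtype]
  have hfr := Sylow.normalizer_sup_eq_top T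
  rw [hmap] at hfr
  have hSN : (S : Subgroup G) ≤ normalizer (((S : Subgroup G) ⊓ N : Subgroup G) : Set G) := fun s hs => by
    refine mem_normalizer_fintype fun x hx => mem_inf.2
      ⟨mul_mem (mul_mem hs (mem_inf.1 hx).1) (inv_mem hs), ?_⟩
    exact (inferInstance : N.Normal).conj_mem x (mem_inf.1 hx).2 s
  by_cases htop : normalizer (((S : Subgroup G) ⊓ N : Subgroup G) : Set G) = ⊤
  · exact Cfsg.Lib.Core.le_pCore' (normalizer_eq_top_iff.1 htop) (S.2.to_le inf_le_left)
  · refine absurd ?_ (h.sup_ne_top hSN le_sup_right htop hN)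
    exact top_le_iff.1 (hfr.ge.trans (sup_le le_sup_left (le_sup_left.trans le_sup_right)))

/-- The kernel of the rank one quotient does not cover `G` with `S`. -/
theorem Hyp.ker_sup_ne_top : K ⊔ (S : Subgroup G) ≠ ⊤ := by
  intro e
  obtain ⟨ε⟩ := h.iso
  haveI := h.charP
  let π : G →* Matrix.ProjectiveSpecialLinearGroup (Fin 2) F := ε.toMonoidHom.comp (QuotientGroup.mk' K)
  have hπ : Function.Surjective π := ε.surjective.comp (QuotientGroup.mk'_surjective K)
  let P := S.mapSurjective (f := π) hπ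
  have hK : K.map π = ⊥ := (Subgroup.map_eq_bot_iff K).2 fun x hx => by
    show ε (QuotientGroup.mk' K x) = 1
    rw [QuotientGroup.mk'_apply, (QuotientGroup.eq_one_iff x).2 hx, map_one]
  have htop : (P : Subgroup (Matrix.ProjectiveSpecialLinearGroup (Fin 2) F)) = ⊤ := by
    have := congrArg (Subgroup.map π) e
    rwa [Subgroup.map_sup, hK, bot_sup_eq, Subgroup.map_top_of_surjective π hπ] at this
  exact Cfsg.Lib.Dickson.sylow_not_normal_psl p P (htop ▸ inferInstance)

/-- `|S : O_p(G)| ≤ q`. -/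
theorem Hyp.relIndex_le : (Cfsg.pCore p G).relIndex (S : Subgroup G) ≤ p ^ n := by
  obtain ⟨ε⟩ := h.iso
  haveI := h.charP
  let π : G →* Matrix.ProjectiveSpecialLinearGroup (Fin 2) F := ε.toMonoidHom.comp (QuotientGroup.mk' K)
  have hπ : Function.Surjective π := ε.surjective.comp (QuotientGroup.mk'_surjective K)
  have hker : π.ker = K := by
    ext x
    rw [MonoidHom.mem_ker]
    show ε (QuotientGroup.mk' K x) = 1 ↔ x ∈ K
    rw [EmbeddingLike.map_eq_one_iff, QuotientGroup.mk'_apply, QuotientGroup.eq_one_iff]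
  have hcard : Nat.card ↥((S : Subgroup G).map π) = p ^ n := by
    have := Cfsg.Lib.Dickson.card_sylow_psl p (S.mapSurjective (f := π) hπ)
    rwa [Sylow.coe_mapSurjective, h.card] at this
  have hle : ((S : Subgroup G) ⊓ K).relIndex (S : Subgroup G) = p ^ n := by
    rw [inf_relIndex_left, ← hker, ← hcard]
    exact Subgroup.relIndex_ker (S : Subgroup G) π
  exact (Nat.le_of_dvd (Nat.pos_of_ne_zero (by rw [hle]; exact pow_ne_zero n (Fact.out : p.Prime).ne_zero))
    (relIndex_dvd_of_le_left _ (h.inf_le_pCore h.ker_sup_ne_top))).trans hle.le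

omit h in
theorem pCore_le : Cfsg.pCore p G ≤ (S : Subgroup G) := Cfsg.Lib.Core.pCore_le_sylow S

theorem Hyp.center_le_vOf : (S : Subgroup G) ⊓ centralizer ((S : Subgroup G) : Set G) ≤ vOf p G := by
  refine le_inf (fun z hz => h.cent ?_) (inf_le_right.trans (centralizer_le pCore_le))
  exact centralizer_le (s := (Cfsg.pCore p G : Set G)) pCore_le hz.2

/-- If `C(Z(O_p))` covers `G` with `S`, then `Z(S)` is central. -/
theorem Hyp.center_central (hc : centralizer (vOf p G : Set G) ⊔ (S : Subgroup G) = ⊤) :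
    (S : Subgroup G) ⊓ centralizer ((S : Subgroup G) : Set G) ≤ center G := by
  intro z hz
  have hle : centralizer (vOf p G : Set G) ⊔ (S : Subgroup G) ≤ centralizer ({z} : Set G) := by
    refine sup_le (fun g hg => mem_centralizer_singleton_iff.2 ?_) (fun g hg => mem_centralizer_singleton_iff.2 ?_)
    · exact (mem_centralizer_iff.1 hg z (h.center_le_vOf hz)).symm
    · exact mem_centralizer_iff.1 hz.2 g hg
  rw [hc] at hle
  exact mem_center_iff.2 fun g => mem_centralizer_singleton_iff.1 (hle (mem_top g))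

/-- The two conjugates and the element of order prime to `p`. -/
theorem Hyp.exists_pair (hc : centralizer (vOf p G : Set G) ⊔ (S : Subgroup G) ≠ ⊤) {u : G}
    (huS : u ∈ (S : Subgroup G)) (huQ : u ∉ Cfsg.pCore p G) {X : Subgroup G} (hXV : X ≤ vOf p G)
    (hX : X.relIndex (vOf p G) ≤ p ^ n) (hfix : ∀ x ∈ X, u * x * u⁻¹ = x) :
    ∃ g y : G, (orderOf y).Coprime p ∧ vOf p G ⊓ centralizer ({y} : Set G) = X ⊓ X.map (MulAut.conj g).toMonoidHom ∧
      (X ⊓ X.map (MulAut.conj g).toMonoidHom).relIndex (vOf p G) = p ^ (2 * n) ∧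
      ∀ v ∈ vOf p G, v ^ p ∈ X ⊓ X.map (MulAut.conj g).toMonoidHom := by
  set V := vOf p G with hV
  set C := centralizer (V : Set G) with hC
  have hVp : IsPGroup p V := (Cfsg.Lib.Core.pCore_isPGroup p G).to_le vOf_le
  have hNV : ∀ x : G, x ∈ normalizer (V : Set G) := fun x => by rw [normalizer_eq_top]; exact mem_top x
  have huC : u ∉ C := fun huC => huQ (h.inf_le_pCore hc ⟨huS, huC⟩)
  obtain ⟨ku, hku⟩ := S.2 ⟨u, huS⟩
  have hku' : u ^ p ^ ku = 1 := congrArg Subtype.val hku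
  -- data attached to a conjugating element
  have data : ∀ g : G, X.map (MulAut.conj g).toMonoidHom ≤ V ∧
      (X.map (MulAut.conj g).toMonoidHom).relIndex V ≤ p ^ n ∧
      (∀ x ∈ X.map (MulAut.conj g).toMonoidHom, g * u * g⁻¹ * x * (g * u * g⁻¹)⁻¹ = x) ∧
      (∃ k, (g * u * g⁻¹) ^ p ^ k = 1) := by
    intro g
    have hVg : V.map (MulAut.conj g).toMonoidHom = V := Cfsg.Lib.Core.map_conj_eq_of_mem_normalizer (hNV g)
    refine ⟨(map_mono hXV).trans hVg.le, ?_, ?_, ⟨ku, by rw [conj_pow, hku']; simp⟩⟩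
    · conv_lhs => rw [← hVg]
      rw [relIndex_map_map_of_injective _ _ (MulAut.conj g).injective]
      exact hX
    · rintro _ ⟨x, hx, rfl⟩
      show g * u * g⁻¹ * (g * x * g⁻¹) * (g * u * g⁻¹)⁻¹ = g * x * g⁻¹
      conv_rhs => rw [← hfix x hx]
      group
  rcases (show n = 1 ∨ 2 ≤ n by have := h.pos; omega) with hn1 | hn2
  · subst hn1
    set mk := QuotientGroup.mk' C with hmk
    obtain ⟨g, hg⟩ : ∃ g : G, ¬ IsPGroup p ↥((zpowers (mk u)) ⊔
        (zpowers (mk u)).map (MulAut.conj (mk g)).toMonoidHom) := by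
      by_contra hall
      push Not at hall
      obtain ⟨N, hNn, hNp, hle⟩ := Cfsg.Lib.Invol.baerSuzuki (zpowers (mk u))
        ((IsPGroup.of_equiv (S.2.map mk) (MulEquiv.refl _)).to_le (zpowers_le.2 (mem_map_of_mem mk huS)))
        (fun q => by
          obtain ⟨g, rfl⟩ := QuotientGroup.mk'_surjective C q
          exact hall g)
      have hNS : N ≤ (S : Subgroup G).map mk := by
        have := (Cfsg.Lib.Core.le_pCore' hNn hNp).trans
          (Cfsg.Lib.Core.pCore_le_sylow (S.mapSurjective (f := mk) (QuotientGroup.mk'_surjective C)))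
        exact this
      haveI := hNn
      have hle' : N.comap mk ⊔ (S : Subgroup G) ≠ ⊤ := by
        intro e
        apply hc
        refine top_le_iff.1 (e.ge.trans (sup_le ?_ le_sup_right))
        refine (comap_mono hNS).trans (le_of_eq ?_)
        rw [comap_map_eq, hmk, QuotientGroup.ker_mk', sup_comm]
      exact huQ (h.inf_le_pCore hle' ⟨huS, mem_comap.2 (hle (mem_zpowers _))⟩)
    set H := closure ({u, g * u * g⁻¹} : Set G) with hH
    have hmap : (zpowers (mk u)) ⊔ (zpowers (mk u)).map (MulAut.conj (mk g)).toMonoidHom = H.map mk := by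
      rw [hH, MonoidHom.map_closure, Set.image_pair, MonoidHom.map_zpowers, zpowers_eq_closure,
        zpowers_eq_closure, ← Subgroup.closure_union]
      congr 1
    rw [hmap] at hg
    obtain ⟨⟨_, w, hw, rfl⟩, hnot⟩ : ∃ z : ↥(H.map mk), ∀ k, z ^ p ^ k ≠ 1 := by
      by_contra hall
      push Not at hall
      exact hg hall
    obtain ⟨a, m, hm, hwm⟩ := Nat.exists_eq_pow_mul_and_not_dvd (orderOf_pos w).ne' p
      (Fact.out : p.Prime).ne_one
    set y := w ^ p ^ a with hy
    have hyord : orderOf y = m := by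
      rw [hy, orderOf_pow' _ (pow_ne_zero a (Fact.out : p.Prime).ne_zero), hwm,
        Nat.gcd_eq_right (dvd_mul_right _ _), Nat.mul_div_cancel_left _ (pow_pos (Fact.out : p.Prime).pos a)]
    have hyC : y ∉ C := fun hyC => hnot a (Subtype.ext (by
      show mk w ^ p ^ a = 1
      rw [← map_pow]
      exact (QuotientGroup.eq_one_iff _).2 hyC))
    obtain ⟨d1, d2, d3, d4⟩ := data g
    obtain ⟨e1, e2, e3⟩ := fixed_inf_eq hVp vOf_comm ⟨ku, hku'⟩ d4 (hNV u) (hNV _) hXV d1
      (by rw [pow_one] at hX; exact hX) (by rw [pow_one] at d2; exact d2) hfix d3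
      (y := y) (pow_mem hw _) (by rw [hyord]; exact ((Fact.out : p.Prime).coprime_iff_not_dvd.2 hm).symm)
      (fun hfixy => hyC (mem_centralizer_iff.2 fun v hv => (mul_inv_eq_iff_eq_mul.1 (hfixy v hv)).symm))
    exact ⟨g, y, by rw [hyord]; exact ((Fact.out : p.Prime).coprime_iff_not_dvd.2 hm).symm, e1, by rw [e2], e3⟩
  · haveI := h.charP
    obtain ⟨ε⟩ := h.iso
    let π : G →* Matrix.ProjectiveSpecialLinearGroup (Fin 2) F := ε.toMonoidHom.comp (QuotientGroup.mk' K)
    have hπ : Function.Surjective π := ε.surjective.comp (QuotientGroup.mk'_surjective K)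
    have hker : π.ker = K := by
      ext x
      rw [MonoidHom.mem_ker]
      show ε (QuotientGroup.mk' K x) = 1 ↔ x ∈ K
      rw [EmbeddingLike.map_eq_one_iff, QuotientGroup.mk'_apply, QuotientGroup.eq_one_iff]
    obtain ⟨r, e, hr, hrp, hD, hpair⟩ := Baumann.exists_pair (F := F) p n hn2 h.card
    have hup : π u ^ p = 1 := sylow_pow_eq_one p (S.mapSurjective (f := π) hπ) (mem_map_of_mem π huS)
    have hu1 : π u ≠ 1 := fun h1 => huQ (h.inf_le_pCore h.ker_sup_ne_top ⟨huS, hker ▸ h1⟩)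
    obtain ⟨c, hcdvd⟩ := hpair (π u) hup hu1
    obtain ⟨c', rfl⟩ := hπ c
    set g := c'⁻¹ with hgdef
    set w := u * (g * u * g⁻¹) with hw
    have hπw : π w = π u * ((π c')⁻¹ * π u * π c') := by
      rw [hw, hgdef, inv_inv, map_mul, map_mul, map_mul, map_inv]
    rw [← hπw] at hcdvd
    obtain ⟨d, hd⟩ := hcdvd
    obtain ⟨j, m, hm, hom⟩ := Nat.exists_eq_pow_mul_and_not_dvd (orderOf_pos (w ^ d)).ne' r hr.ne_one
    set y := (w ^ d) ^ m with hy
    have hd0 : d ≠ 0 := by
      rintro rfl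
      exact (orderOf_pos (π w)).ne' (hd.trans (mul_zero _))
    have hπwd : orderOf (π (w ^ d)) = r ^ (e + 1) := by
      rw [map_pow, orderOf_pow' _ hd0, hd, Nat.gcd_eq_right (dvd_mul_left _ _),
        Nat.mul_div_cancel _ (Nat.pos_of_ne_zero hd0)]
    have hm0 : m ≠ 0 := fun h0 => hm (h0 ▸ dvd_zero r)
    have hyord : orderOf y = r ^ j := by
      rw [hy, orderOf_pow' _ hm0, hom, Nat.gcd_eq_right (dvd_mul_left _ _),
        Nat.mul_div_cancel _ (Nat.pos_of_ne_zero hm0)]
    have hπy : orderOf (π y) = r ^ (e + 1) := by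
      rw [hy, map_pow, orderOf_pow' _ hm0, hπwd,
        (Nat.Coprime.pow_left _ ((hr.coprime_iff_not_dvd).2 hm)).gcd_eq_one, Nat.div_one]
    have hCmap : C.map π = ⊥ := by
      haveI : (C.map π).Normal := (inferInstance : C.Normal).map π hπ
      haveI : IsSimpleGroup (Matrix.ProjectiveSpecialLinearGroup (Fin 2) F) :=
        Cfsg.Lib.Dickson.isSimpleGroup_psl_two (by
          rw [h.card]
          calc 4 ≤ 2 ^ 2 := le_rfl
            _ ≤ p ^ 2 := Nat.pow_le_pow_left (Fact.out : p.Prime).two_le 2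
            _ ≤ p ^ n := Nat.pow_le_pow_right (Fact.out : p.Prime).pos hn2)
      refine ((‹(C.map π).Normal›).eq_bot_or_eq_top).resolve_right fun htop => ?_
      refine h.sup_ne_top le_sup_right le_sup_right hc h.ker_sup_ne_top (top_le_iff.1 ?_)
      have : C ⊔ K = ⊤ := by
        rw [← hker, ← comap_map_eq, htop, comap_top]
      rw [← this]
      exact sup_le (le_sup_left.trans le_sup_left) (le_sup_left.trans le_sup_right)
    have hne : y ^ r ^ e ∉ C := fun hmem => by
      have h1 : π (y ^ r ^ e) = 1 := by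
        have := mem_map_of_mem π hmem
        rwa [hCmap, mem_bot] at this
      rw [map_pow] at h1
      have h2 := Nat.le_of_dvd (pow_pos hr.pos _) (hπy ▸ orderOf_dvd_of_pow_eq_one h1)
      exact absurd h2 (not_le.2 (Nat.pow_lt_pow_right hr.one_lt (Nat.lt_succ_self e)))
    obtain ⟨d1, d2, d3, -⟩ := data g
    have hyH : y ∈ closure ({u, g * u * g⁻¹} : Set G) := by
      refine pow_mem (pow_mem (mul_mem (subset_closure ?_) (subset_closure ?_)) _) _
      · exact Set.mem_insert _ _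
      · exact Set.mem_insert_of_mem _ rfl
    obtain ⟨e1, e2, e3⟩ := fixed_inf_eq_of_large hVp vOf_comm hr hrp hD hXV hX d2 hfix d3 hyH (hNV y)
      hyord hne
    exact ⟨g, y, by rw [hyord]; exact (((Nat.coprime_primes hr Fact.out).2 hrp).pow_left _), e1, e2, e3⟩

/-- The main alternative. -/
theorem Hyp.key (hc : centralizer (vOf p G : Set G) ⊔ (S : Subgroup G) ≠ ⊤) {A : Subgroup G}
    (hA : IsMaxAbIn (S : Subgroup G) A) (hAQ : ¬ A ≤ Cfsg.pCore p G) :
    A ⊔ Cfsg.pCore p G = (S : Subgroup G) ∧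
    vOf p G ⊓ centralizer (A : Set G) = (S : Subgroup G) ⊓ centralizer ((S : Subgroup G) : Set G) ∧
    IsMaxAbIn (S : Subgroup G) ((A ⊓ Cfsg.pCore p G) ⊔ vOf p G) ∧
    (∀ v ∈ vOf p G, v ^ p ∈ center G) ∧
    ((S : Subgroup G) ⊓ centralizer ((S : Subgroup G) : Set G)).relIndex (vOf p G) = p ^ n ∧
    ∃ g : G, (S : Subgroup G) ⊔ (S : Subgroup G).map (MulAut.conj g).toMonoidHom = ⊤ ∧
      vOf p G ≤ ((S : Subgroup G) ⊓ centralizer ((S : Subgroup G) : Set G)) ⊔
        ((S : Subgroup G) ⊓ centralizer ((S : Subgroup G) : Set G)).map (MulAut.conj g).toMonoidHom := by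
  set Q := Cfsg.pCore p G with hQ
  set V := vOf p G with hV
  set X := V ⊓ centralizer (A : Set G) with hXdef
  have hVp : IsPGroup p V := (Cfsg.Lib.Core.pCore_isPGroup p G).to_le vOf_le
  have hVS : V ≤ (S : Subgroup G) := vOf_le.trans pCore_le
  have hAV : A ⊓ V = X := le_antisymm
    (le_inf inf_le_right (inf_le_left.trans fun a ha => mem_centralizer_iff.2 fun b hb =>
      congrArg Subtype.val (hA.2.1.is_comm.comm ⟨b, hb⟩ ⟨a, ha⟩)))
    fun x hx => ⟨hA.mem_of_commute (hVS hx.1) fun a ha => (mem_centralizer_iff.1 hx.2 a ha).symm, hx.1⟩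
  -- the competitor
  set B := (A ⊓ Q) ⊔ V with hB
  have hcomm : ⁅A ⊓ Q, V⁆ = ⊥ := commutator_eq_bot_iff_le_centralizer.2 (inf_le_right.trans pCore_le_centralizer_vOf)
  have hBab : IsMulCommutative B := by
    refine ⟨⟨fun a b => Subtype.ext ?_⟩⟩
    obtain ⟨a1, ha1, a2, ha2, ea⟩ := (Cfsg.Lib.Core.mem_sup_of_commute hcomm).1 a.2
    obtain ⟨b1, hb1, b2, hb2, eb⟩ := (Cfsg.Lib.Core.mem_sup_of_commute hcomm).1 b.2
    have c11 : Commute a1 b1 := congrArg Subtype.val (hA.2.1.is_comm.comm ⟨a1, ha1.1⟩ ⟨b1, hb1.1⟩)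
    have c22 : Commute a2 b2 := vOf_comm a2 ha2 b2 hb2
    have c12 : Commute a1 b2 := Cfsg.Lib.Core.commutator_eq_bot_iff_forall.1 hcomm a1 ha1 b2 hb2
    have c21 : Commute b1 a2 := Cfsg.Lib.Core.commutator_eq_bot_iff_forall.1 hcomm b1 hb1 a2 ha2
    show (a : G) * b = b * a
    rw [← ea, ← eb]
    exact ((c11.mul_right c12).mul_left (c21.symm.mul_right c22)).eq
  have hBS : B ≤ (S : Subgroup G) := sup_le (inf_le_left.trans hA.1) hVS
  have hBle := hA.2.2 B hBS hBab
  have hprod : Nat.card B * Nat.card X = Nat.card ↥(A ⊓ Q) * Nat.card V := by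
    have hn : V ≤ normalizer ((A ⊓ Q : Subgroup G) : Set G) :=
      (commutator_eq_bot_iff_le_centralizer.1 (by rw [commutator_comm]; exact hcomm)).trans
        (centralizer_le_normalizer _)
    have e := card_sup_mul_inf hn
    rwa [show A ⊓ Q ⊓ V = X by rw [inf_assoc, inf_eq_right.2 vOf_le, hAV]] at e
  have hi1 : Nat.card ↥(A ⊓ Q) * Q.relIndex A = Nat.card A := by
    rw [← inf_relIndex_left, Cfsg.Lib.Core.card_mul_relIndex inf_le_left]
  have hi2 : Nat.card X * X.relIndex V = Nat.card V := Cfsg.Lib.Core.card_mul_relIndex inf_le_left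
  have hBeq : Nat.card B = Nat.card ↥(A ⊓ Q) * X.relIndex V := by
    rw [← hi2] at hprod
    refine Nat.eq_of_mul_eq_mul_right (Nat.card_pos (α := X)) (hprod.trans ?_)
    ring
  have hXle : X.relIndex V ≤ Q.relIndex A := by
    rw [hBeq, ← hi1] at hBle
    exact Nat.le_of_mul_le_mul_left hBle Nat.card_pos
  have hAle : Q.relIndex A ≤ p ^ n := (relIndex_le_of_le_right hA.1 index_ne_zero_of_finite).trans h.relIndex_le
  obtain ⟨u, huA, huQ⟩ := SetLike.not_le_iff_exists.1 hAQ
  have hfix : ∀ x ∈ X, u * x * u⁻¹ = x := fun x hx =>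
    mul_inv_eq_iff_eq_mul.2 (mem_centralizer_iff.1 hx.2 u huA)
  obtain ⟨g, y, -, e1, e2, e3⟩ := h.exists_pair hc (hA.1 huA) huQ inf_le_left (hXle.trans hAle) hfix
  have hVg : ∀ g : G, V.map (MulAut.conj g).toMonoidHom = V := fun g =>
    Cfsg.Lib.Core.map_conj_eq_of_mem_normalizer (by rw [normalizer_eq_top]; exact mem_top g)
  have hconj : ∀ (Y : Subgroup G) (g : G), (Y.map (MulAut.conj g).toMonoidHom).relIndex V = Y.relIndex V :=
    fun Y g => by
      conv_lhs => rw [← hVg g]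
      rw [relIndex_map_map_of_injective _ _ (MulAut.conj g).injective]
  have hXeq : X.relIndex V = p ^ n := by
    refine le_antisymm (hXle.trans hAle) ?_
    have h1 : p ^ (2 * n) ≤ X.relIndex V * X.relIndex V := by
      refine e2.ge.trans (relIndex_inf_le.trans (le_of_eq ?_))
      rw [hconj]
    by_contra hlt
    push Not at hlt
    have := Nat.mul_lt_mul_of_lt_of_lt hlt hlt
    rw [← pow_add, ← two_mul] at this
    omega
  have hQA : Q.relIndex A = p ^ n := le_antisymm hAle (hXeq ▸ hXle)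
  have hsup : A ⊔ Q = (S : Subgroup G) := by
    refine le_antisymm (sup_le hA.1 pCore_le) (relIndex_eq_one.1 ?_)
    have hmul := relIndex_mul_relIndex Q (A ⊔ Q) (S : Subgroup G) le_sup_right (sup_le hA.1 pCore_le)
    rw [relIndex_sup_right, hQA] at hmul
    have hle := h.relIndex_le
    rw [← hmul] at hle
    have hpos : 0 < p ^ n := pow_pos (Fact.out : p.Prime).pos n
    have hne : (A ⊔ Q).relIndex (S : Subgroup G) ≠ 0 := index_ne_zero_of_finite
    nlinarith [Nat.pos_of_ne_zero hne]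
  have hXZ : X = (S : Subgroup G) ⊓ centralizer ((S : Subgroup G) : Set G) := by
    refine le_antisymm (le_inf (inf_le_left.trans hVS) fun x hx => ?_)
      (le_inf h.center_le_vOf (inf_le_right.trans (centralizer_le hA.1)))
    have hle : A ⊔ Q ≤ centralizer ({x} : Set G) := sup_le
      (fun a ha => mem_centralizer_singleton_iff.2 (mem_centralizer_iff.1 hx.2 a ha))
      (fun q hq => mem_centralizer_singleton_iff.2 (mem_centralizer_iff.1 hx.1.2 q hq))
    rw [hsup] at hle
    exact mem_centralizer_iff.2 fun s hs => mem_centralizer_singleton_iff.1 (hle hs)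
  obtain ⟨g₀, hg₀⟩ : ∃ g : G, (S : Subgroup G) ⊔ (S : Subgroup G).map (MulAut.conj g).toMonoidHom = ⊤ := by
    by_contra hall
    push Not at hall
    set N := normalClosure ((S : Subgroup G) : Set G) with hN
    have hSN : (S : Subgroup G) ≤ N := le_normalClosure
    obtain ⟨M, ⟨hM, hSM⟩, huniq⟩ := h.uniq
    have hNM : N ≤ M := by
      rw [hN, normalClosure, closure_le]
      intro z hz
      obtain ⟨s, hs, hzs⟩ := Group.mem_conjugatesOfSet_iff.1 hz
      obtain ⟨c, rfl⟩ := isConj_iff.1 hzs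
      obtain ⟨M', hM', hle⟩ := (eq_top_or_exists_le_coatom _).resolve_left (hall c)
      have e := huniq M' ⟨hM', le_sup_left.trans hle⟩
      exact e ▸ hle (mem_sup_right ⟨s, hs, rfl⟩)
    refine huQ (h.inf_le_pCore ?_ ⟨hA.1 huA, hSN (hA.1 huA)⟩)
    exact fun e => hM.1 (top_le_iff.1 (e.ge.trans (sup_le hNM hSM)))
  set X₀ := X.map (MulAut.conj g₀).toMonoidHom with hX₀
  have hcen : X ⊓ X₀ ≤ center G := by
    rintro z ⟨hz, hz'⟩
    rw [hXZ] at hz
    obtain ⟨w, hw, rfl⟩ := hz'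
    rw [SetLike.mem_coe, hXZ] at hw
    have hle : (S : Subgroup G) ⊔ (S : Subgroup G).map (MulAut.conj g₀).toMonoidHom ≤
        centralizer ({(MulAut.conj g₀).toMonoidHom w} : Set G) := by
      refine sup_le (fun s hs => mem_centralizer_singleton_iff.2 (mem_centralizer_iff.1 hz.2 s hs)) ?_
      rintro _ ⟨s, hs, rfl⟩
      refine mem_centralizer_singleton_iff.2 ?_
      rw [← map_mul, ← map_mul, mem_centralizer_iff.1 hw.2 s hs]
    rw [hg₀] at hle
    exact mem_center_iff.2 fun x => mem_centralizer_singleton_iff.1 (hle (mem_top x))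
  have hD₀ : X ⊓ X₀ ≤ V ⊓ centralizer ({y} : Set G) := fun z hz =>
    ⟨hz.1.1, mem_centralizer_singleton_iff.2 ((mem_center_iff.1 (hcen hz) y).symm)⟩
  have hX₀p : X₀.relIndex V = p ^ n := by rw [hX₀, hconj, hXeq]
  have hD₀le : (X ⊓ X₀).relIndex V ≤ p ^ (2 * n) := by
    rw [two_mul, pow_add]
    exact relIndex_inf_le.trans (le_of_eq (by rw [hXeq, hX₀p]))
  have hD₀eq : X ⊓ X₀ = V ⊓ centralizer ({y} : Set G) ∧ (X ⊓ X₀).relIndex V = p ^ (2 * n) := by
    have hmul := relIndex_mul_relIndex (X ⊓ X₀) (V ⊓ centralizer ({y} : Set G)) V hD₀ inf_le_left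
    have ey : (V ⊓ centralizer ({y} : Set G)).relIndex V = p ^ (2 * n) := by rw [e1, e2]
    rw [ey] at hmul
    have h1 : (X ⊓ X₀).relIndex (V ⊓ centralizer ({y} : Set G)) = 1 := by
      have hne : (X ⊓ X₀).relIndex (V ⊓ centralizer ({y} : Set G)) ≠ 0 := index_ne_zero_of_finite
      have hpos : 0 < p ^ (2 * n) := pow_pos (Fact.out : p.Prime).pos _
      rw [← hmul] at hD₀le
      nlinarith [Nat.pos_of_ne_zero hne]
    refine ⟨le_antisymm hD₀ (relIndex_eq_one.1 h1), ?_⟩
    rw [← hmul, h1, one_mul]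
  refine ⟨hsup, hXZ, ⟨hBS, hBab, fun C hC hCc => (hA.2.2 C hC hCc).trans (le_of_eq ?_)⟩, ?_, hXZ ▸ hXeq, g₀, hg₀, ?_⟩
  · rw [hBeq, hXeq, ← hQA, hi1]
  · intro v hv
    refine hcen (hD₀eq.1 ▸ e1 ▸ e3 v hv)
  · rw [← hXZ]
    refine relIndex_eq_one.1 ?_
    have hXV : X ≤ V := inf_le_left
    have hX₀V : X₀ ≤ V := (map_mono hXV).trans (hVg g₀).le
    haveI : (X.subgroupOf (X ⊔ X₀)).Normal := by
      refine (normal_subgroupOf_iff_le_normalizer le_sup_left).2 (sup_le le_normalizer ?_)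
      intro z hz
      refine mem_normalizer_fintype fun x hx => ?_
      rw [vOf_comm z (hX₀V hz) x (hXV hx), mul_inv_cancel_right]
      exact hx
    have hmul1 := relIndex_mul_relIndex (X ⊓ X₀) X₀ V inf_le_right hX₀V
    rw [hD₀eq.2, hX₀p, inf_relIndex_right, two_mul, pow_add] at hmul1
    have hXX₀ : X.relIndex X₀ = p ^ n := Nat.eq_of_mul_eq_mul_right (pow_pos (Fact.out : p.Prime).pos _) hmul1
    have hsupX : X.relIndex (X ⊔ X₀) = X.relIndex X₀ := by
      rw [← relIndex_subgroupOf (le_sup_right : X₀ ≤ X ⊔ X₀), relIndex, ← relIndex_top_right,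
        ← subgroupOf_self (H := X ⊔ X₀), subgroupOf_sup le_sup_left le_sup_right,
        sup_comm (X.subgroupOf (X ⊔ X₀)), relIndex_sup_right]
    have hmul2 := relIndex_mul_relIndex X (X ⊔ X₀) V le_sup_left (sup_le hXV hX₀V)
    rw [hsupX, hXX₀, hXeq] at hmul2
    exact Nat.eq_of_mul_eq_mul_left (pow_pos (Fact.out : p.Prime).pos _) (hmul2.trans (mul_one _).symm)

end

end Cfsg.Lib.Local.Baumann
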