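import Cfsg.Agent.Lib.Local.Baumann.Main
import Cfsg.Agent.Lib.Local.CentrallyLarge
import Cfsg.Agent.Lib.PGroup.Basic

/-!
# Pushing up in rank one: centrally large subgroups

When `S` centralizes `Z(J(S))` and `Z(S)` is not central, a minimal centrally large subgroup `R` of `S` outside
`Q = O_p(G)` satisfies `R = (R ∩ Q) Z(R)`, and `(R ∩ Q) Z(Q)` is again minimal centrally large.
-/

set_option autoImplicit false
set_option linter.style.haveILetI false

namespace Cfsg.Lib.Local.Baumann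

open Subgroup GlaubermanZJ
open scoped commutatorElement

local notation:max "cj" g:max K:max => Subgroup.map (MulEquiv.toMonoidHom (MulAut.conj g)) K

section Defs

variable {G H : Type*} [Group G] [Group H]

/-- The centre of `R`, inside `G`. -/
def zcIn (R : Subgroup G) : Subgroup G := R ⊓ centralizer (R : Set G)

/-- `|R| · |Z(R)|`. -/
noncomputable def clVal (R : Subgroup G) : ℕ := Nat.card ↥R * Nat.card ↥(zcIn R)

/-- Centrally large inside `S`. -/
def CLIn (S R : Subgroup G) : Prop := R ≤ S ∧ ∀ C ≤ S, clVal C ≤ clVal R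

/-- Minimal centrally large inside `S`. -/
def MCLIn (S R : Subgroup G) : Prop := CLIn S R ∧ ∀ C ≤ R, CLIn S C → C = R

/-- The elements of order dividing `p` in the centre of `R`. -/
def omIn (p : ℕ) (R : Subgroup G) : Subgroup G := Cfsg.omegaOne p (zcIn R)

/-- The subgroup generated by the commutators and `p`-th powers of `R`. -/
def phiIn (p : ℕ) (R : Subgroup G) : Subgroup G := ⁅R, R⁆ ⊔ closure ((fun x => x ^ p) '' (R : Set G))

theorem zcIn_comm {R : Subgroup G} {x y : G} (hx : x ∈ zcIn R) (hy : y ∈ R) : y * x = x * y :=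
  mem_centralizer_iff.1 hx.2 y hy

theorem map_zcIn (f : G →* H) (hf : Function.Injective f) (R : Subgroup G) :
    (zcIn R).map f = zcIn (R.map f) := by
  ext x
  constructor
  · rintro ⟨y, hy, rfl⟩
    refine mem_inf.2 ⟨mem_map_of_mem _ hy.1, mem_centralizer_iff.2 ?_⟩
    rintro _ ⟨z, hz, rfl⟩
    rw [← map_mul, zcIn_comm hy hz, map_mul]
  · rintro ⟨⟨y, hy, rfl⟩, hc⟩
    refine ⟨y, mem_inf.2 ⟨hy, mem_centralizer_iff.2 fun z hz => hf ?_⟩, rfl⟩
    rw [map_mul, map_mul]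
    exact mem_centralizer_iff.1 hc _ (mem_map_of_mem f hz)

theorem map_omegaOne (f : G →* H) (hf : Function.Injective f) (p : ℕ) (R : Subgroup G) :
    (Cfsg.omegaOne p R).map f = Cfsg.omegaOne p (R.map f) := by
  unfold Cfsg.omegaOne
  rw [MonoidHom.map_closure]
  congr 1
  ext x
  constructor
  · rintro ⟨y, ⟨hy, hp⟩, rfl⟩
    exact ⟨mem_map_of_mem _ hy, by rw [← map_pow, hp, map_one]⟩
  · rintro ⟨⟨y, hy, rfl⟩, hp⟩
    exact ⟨y, ⟨hy, hf (by rw [map_pow, hp, map_one])⟩, rfl⟩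

theorem map_omIn (f : G →* H) (hf : Function.Injective f) (p : ℕ) (R : Subgroup G) :
    (omIn p R).map f = omIn p (R.map f) := by
  rw [omIn, map_omegaOne f hf, map_zcIn f hf, omIn]

theorem map_phiIn (f : G →* H) (p : ℕ) (R : Subgroup G) : (phiIn p R).map f = phiIn p (R.map f) := by
  rw [phiIn, Subgroup.map_sup, Subgroup.map_commutator, MonoidHom.map_closure, phiIn, Subgroup.coe_map,
    Set.image_image, Set.image_image]
  simp only [map_pow]

theorem clVal_map (f : G →* H) (hf : Function.Injective f) (R : Subgroup G) : clVal (R.map f) = clVal R := by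
  rw [clVal, ← map_zcIn f hf, card_map_of_injective hf, card_map_of_injective hf, clVal]

theorem mem_omegaOne_of_comm {p : ℕ} {R : Subgroup G} (hR : ∀ a ∈ R, ∀ b ∈ R, a * b = b * a) {x : G} :
    x ∈ Cfsg.omegaOne p R ↔ x ∈ R ∧ x ^ p = 1 := by
  refine ⟨fun hx => ?_, fun hx => Subgroup.subset_closure hx⟩
  let K : Subgroup G :=
    { carrier := {x | x ∈ R ∧ x ^ p = 1}
      one_mem' := ⟨one_mem R, one_pow p⟩
      mul_mem' := fun {a b} ha hb =>
        ⟨mul_mem ha.1 hb.1, by rw [(show Commute a b from hR a ha.1 b hb.1).mul_pow, ha.2, hb.2, one_mul]⟩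
      inv_mem' := fun {a} ha => ⟨inv_mem ha.1, by rw [inv_pow, ha.2, inv_one]⟩ }
  exact (closure_le K).2 (fun y hy => hy) hx

theorem mem_omIn {p : ℕ} {R : Subgroup G} {x : G} : x ∈ omIn p R ↔ x ∈ zcIn R ∧ x ^ p = 1 :=
  mem_omegaOne_of_comm fun _ ha _ hb => zcIn_comm hb ha.1

theorem phiIn_frattini [Finite G] {p : ℕ} [Fact p.Prime] {R : Subgroup G} (hR : IsPGroup p ↥R) :
    (frattini ↥R).map R.subtype = phiIn p R := by
  rw [PGroup.frattini_eq_sup hR, Subgroup.map_sup, commutator_def, Subgroup.map_commutator,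
    ← MonoidHom.range_eq_map, Subgroup.range_subtype, MonoidHom.map_closure, phiIn, ← Set.range_comp]
  congr 2
  ext x
  exact ⟨fun ⟨⟨y, hy⟩, e⟩ => ⟨y, hy, e⟩, fun ⟨y, hy, e⟩ => ⟨⟨y, hy⟩, e⟩⟩

variable [Finite G] {S R : Subgroup G}

theorem exists_clIn (S : Subgroup G) : ∃ R, CLIn S R := by
  classical
  haveI := Fintype.ofFinite (Subgroup G)
  obtain ⟨R, hR, hmax⟩ := (Finset.univ.filter fun R : Subgroup G => R ≤ S).exists_max_image clVal
    ⟨⊥, Finset.mem_filter.2 ⟨Finset.mem_univ _, bot_le⟩⟩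
  exact ⟨R, (Finset.mem_filter.1 hR).2, fun C hC => hmax C (Finset.mem_filter.2 ⟨Finset.mem_univ _, hC⟩)⟩

theorem CLIn.exists_minimal (hR : CLIn S R) : ∃ C, MCLIn S C ∧ C ≤ R := by
  obtain ⟨C, hC, hmin⟩ := Set.Finite.exists_minimal (s := {X : Subgroup G | CLIn S X ∧ X ≤ R})
    (Set.toFinite _) ⟨R, hR, le_rfl⟩
  exact ⟨C, ⟨hC.1, fun D hD hDl => le_antisymm hD (hmin ⟨hDl, hD.trans hC.2⟩ hD)⟩, hC.2⟩

omit [Finite G] in
theorem card_center_eq (R : Subgroup ↥S) : Nat.card ↥R * Nat.card ↥(center ↥R) = clVal (R.map S.subtype) := by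
  rw [CLarge.card_zc, clVal_map S.subtype S.subtype_injective, clVal]
  rfl

theorem cl_iff_in {R : Subgroup ↥S} : Cfsg.IsCentrallyLarge R ↔ CLIn S (R.map S.subtype) := by
  constructor
  · intro h
    refine ⟨map_subtype_le R, fun C hC => ?_⟩
    have := CLarge.central_le (C.subgroupOf S)
    rw [card_center_eq, map_subgroupOf_eq_of_le hC] at this
    rw [← card_center_eq R]
    exact this.trans h.ge
  · intro h
    obtain ⟨R₀, hR₀⟩ := CLarge.exists_cl (P := ↥S)
    have := h.2 _ (map_subtype_le R₀)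
    rw [← card_center_eq, ← card_center_eq] at this
    exact le_antisymm (CLarge.central_le R) (hR₀.ge.trans this)

theorem mcl_iff_in {R : Subgroup ↥S} : Cfsg.IsMinimalCentrallyLarge R ↔ MCLIn S (R.map S.subtype) := by
  constructor
  · intro h
    refine ⟨cl_iff_in.1 h.1, fun C hC hCl => ?_⟩
    have hCS : C ≤ S := hCl.1
    rw [← map_subgroupOf_eq_of_le hCS] at hCl ⊢
    rw [h.2 _ (fun x hx => by
      obtain ⟨y, hy, e⟩ := hC hx
      rwa [← Subtype.ext (a1 := y) (a2 := x) e]) (cl_iff_in.2 hCl)]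
  · intro h
    exact ⟨cl_iff_in.2 h.1, fun R' hle hR' =>
      map_injective S.subtype_injective (h.2 _ (map_mono hle) (cl_iff_in.1 hR'))⟩

omit [Finite G] in
theorem MCLIn.exists_sub (h : MCLIn S R) : (R.subgroupOf S).map S.subtype = R := map_subgroupOf_eq_of_le h.1.1

theorem MCLIn.common {R' : Subgroup G} (h : MCLIn S R) (h' : MCLIn S R') :
    ⁅R, R⁆ = ⁅R', R'⁆ ∧ Nat.card ↥R = Nat.card ↥R' := by
  have e := h.exists_sub
  have e' := h'.exists_sub
  rw [← e] at h ⊢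
  rw [← e'] at h' ⊢
  have m := mcl_iff_in.2 h
  have m' := mcl_iff_in.2 h'
  constructor
  · rw [← Subgroup.map_commutator, ← Subgroup.map_commutator, CLarge.commutator_eq_inf m m'.1,
      CLarge.commutator_eq_inf m' m.1, inf_comm]
  · rw [card_map_of_injective S.subtype_injective, card_map_of_injective S.subtype_injective]
    exact (CLarge.card_minimal_eq m m').1

theorem CLIn.centralizer_le (h : CLIn S R) : S ⊓ centralizer (R : Set G) ≤ R := by
  intro x hx
  have e : (R.subgroupOf S).map S.subtype = R := map_subgroupOf_eq_of_le h.1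
  rw [← e] at h
  have hc := (CLarge.cl_iff.1 (cl_iff_in.2 h)).2
  have := hc (x := ⟨x, hx.1⟩) (mem_centralizer_iff.2 fun y hy => Subtype.ext (mem_centralizer_iff.1 hx.2 y hy))
  exact mem_subgroupOf.1 this

omit [Finite G] in
theorem MCLIn.conj {Q : Subgroup G} (h : MCLIn S R) (hQS : Q ≤ S) [Q.Normal] (hRQ : R ≤ Q) (g : G) :
    MCLIn S (cj g R) ∧ cj g R ≤ Q := by
  have hQ : cj g R ≤ Q := (map_mono hRQ).trans (Core.map_conj_eq_of_mem_normalizer
    (by rw [normalizer_eq_top]; exact mem_top g)).le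
  refine ⟨⟨⟨hQ.trans hQS, fun C hC => ?_⟩, fun C hC hCl => ?_⟩, hQ⟩
  · rw [clVal_map _ (MulAut.conj g).injective]
    exact h.1.2 C hC
  · have hle : cj g⁻¹ C ≤ R := by
      rintro _ ⟨c, hc, rfl⟩
      obtain ⟨r, hr, e⟩ := hC hc
      rw [← e]
      simpa [mul_assoc] using hr
    have e := h.2 _ hle ⟨hle.trans h.1.1, fun D hD => by
      rw [clVal_map _ (MulAut.conj g⁻¹).injective]; exact hCl.2 D hD⟩
    rw [← e, Subgroup.map_map]
    conv_lhs => rw [← Subgroup.map_id C]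
    congr 1
    ext x
    simp [mul_assoc]

end Defs

variable {G : Type*} [Group G] [Finite G] {p : ℕ} [Fact p.Prime]
variable {S : Sylow p G} {F : Type} [Field F] [Fintype F] {n : ℕ} {K : Subgroup G} [K.Normal]

local notation "ZJ" => Cfsg.centerThompsonAOf
local notation "Q" => Cfsg.pCore p G
local notation "V" => vOf p G
local notation "ZS" => (S : Subgroup G) ⊓ centralizer ((S : Subgroup G) : Set G)

section
variable (h : Hyp S F n K)
include h

/-- `S` is not normal. -/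
theorem Hyp.not_sylow_le : ¬ (S : Subgroup G) ≤ Q := by
  intro hle
  have hSn : (S : Subgroup G).Normal := by
    rw [le_antisymm hle pCore_le]
    infer_instance
  obtain ⟨ε⟩ := h.iso
  haveI := h.charP
  let π : G →* Matrix.ProjectiveSpecialLinearGroup (Fin 2) F := ε.toMonoidHom.comp (QuotientGroup.mk' K)
  have hπ : Function.Surjective π := ε.surjective.comp (QuotientGroup.mk'_surjective K)
  refine Cfsg.Lib.Dickson.sylow_not_normal_psl p (S.mapSurjective (f := π) hπ) ?_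
  rw [Sylow.coe_mapSurjective]
  exact hSn.map π hπ

/-- If `Z(S)` is not central and `S` centralizes `Z(J(S))`, then `Z(S)` has index `q` in `Z(O_p(G))`. -/
theorem Hyp.data (hJ : (S : Subgroup G) ≤ centralizer (ZJ (S : Subgroup G) : Set G)) (hZ : ¬ ZS ≤ center G) :
    centralizer (V : Set G) ⊔ (S : Subgroup G) ≠ ⊤ ∧ (ZS).relIndex V = p ^ n := by
  have hc : centralizer (V : Set G) ⊔ (S : Subgroup G) ≠ ⊤ := fun e => hZ (h.center_central e)
  refine ⟨hc, ?_⟩
  by_cases hA : ∀ A, IsMaxAbIn (S : Subgroup G) A → A ≤ Q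
  · exfalso
    haveI := (h.easy hA).1
    refine hZ ((center_le_zj _).trans ?_)
    by_contra hne
    refine h.not_sylow_le fun s hs => h.inf_le_pCore (N := centralizer (ZJ (S : Subgroup G) : Set G)) ?_ ⟨hs, hJ hs⟩
    intro e
    rw [sup_eq_left.2 hJ] at e
    exact hne fun z hz => mem_center_iff.2 fun g => (mem_centralizer_iff.1 (e.ge (mem_top g)) z hz).symm
  · push Not at hA
    obtain ⟨A, hA, hAQ⟩ := hA
    exact (h.key hc hA hAQ).2.2.2.2.1

/-- An element of `S` outside `Q` fixes only `Z(S)` in `V`, and `V` is generated by it and elements of order `p`. -/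
theorem Hyp.fixed (hc : centralizer (V : Set G) ⊔ (S : Subgroup G) ≠ ⊤) (hi : (ZS).relIndex V = p ^ n)
    {u : G} (hu : u ∈ (S : Subgroup G)) (huQ : u ∉ Q) :
    V ⊓ centralizer ({u} : Set G) = ZS ∧ ∀ v ∈ V, ∃ w ∈ V, w ^ p = 1 ∧ w⁻¹ * v ∈ ZS := by
  set X := V ⊓ centralizer ({u} : Set G) with hX
  have hZX : ZS ≤ X := le_inf h.center_le_vOf fun z hz =>
    mem_centralizer_singleton_iff.2 (mem_centralizer_iff.1 hz.2 u hu).symm
  have hpos : 0 < p ^ n := pow_pos (Fact.out : p.Prime).pos n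
  have hXle : X.relIndex V ≤ p ^ n := Nat.le_of_dvd hpos (hi ▸ relIndex_dvd_of_le_left _ hZX)
  obtain ⟨g, y, hy, e1, e2, e3⟩ := h.exists_pair hc hu huQ inf_le_left hXle
    fun x hx => mul_inv_eq_iff_eq_mul.2 (mem_centralizer_singleton_iff.1 hx.2).symm
  have hVg : cj g V = V := Cfsg.Lib.Core.map_conj_eq_of_mem_normalizer (by rw [normalizer_eq_top]; exact mem_top g)
  have hXg : (cj g X).relIndex V = X.relIndex V := by
    conv_lhs => rw [← hVg]
    rw [relIndex_map_map_of_injective _ _ (MulAut.conj g).injective]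
  have hXeq : X.relIndex V = p ^ n := by
    refine le_antisymm hXle ?_
    have h1 : p ^ n * p ^ n ≤ X.relIndex V * X.relIndex V := by
      rw [← pow_add, ← two_mul, ← e2]
      exact relIndex_inf_le.trans (le_of_eq (by rw [hXg]))
    exact Nat.mul_self_le_mul_self_iff.1 h1
  have hXZ : X = ZS := by
    refine (le_antisymm hZX (relIndex_eq_one.1 ?_)).symm
    have := relIndex_mul_relIndex (ZS) X V hZX inf_le_left
    rw [hi, hXeq] at this
    exact Nat.eq_of_mul_eq_mul_right hpos (this.trans (one_mul _).symm)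
  refine ⟨hXZ, fun v hv => ?_⟩
  have hyV : ∀ w ∈ V, ⁅w, y⁆ ∈ V := fun w hw => by
    rw [commutatorElement_def, mul_assoc w, mul_assoc w]
    exact mul_mem hw ((inferInstance : (vOf p G).Normal).conj_mem _ (inv_mem hw) y)
  have hD : ∀ w ∈ V, w * y = y * w → w ∈ ZS := fun w hw e => by
    have : w ∈ V ⊓ centralizer ({y} : Set G) := mem_inf.2 ⟨hw, mem_centralizer_singleton_iff.2 e⟩
    rw [e1] at this
    exact hXZ ▸ this.1
  let ψ : ↥(vOf p G) →* ↥(vOf p G) := MonoidHom.mk' (fun w => ⟨⁅(w : G), y⁆, hyV w w.2⟩) fun a b => Subtype.ext (by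
    show ⁅((a * b : ↥(vOf p G)) : G), y⁆ = ⁅(a : G), y⁆ * ⁅(b : G), y⁆
    calc ⁅((a * b : ↥(vOf p G)) : G), y⁆ = a * ⁅(b : G), y⁆ * (a : G)⁻¹ * ⁅(a : G), y⁆ := by
          rw [Subgroup.coe_mul]; simp only [commutatorElement_def]; group
      _ = ⁅(a : G), y⁆ * ⁅(b : G), y⁆ := by
          rw [vOf_comm _ a.2 _ (hyV b b.2), mul_inv_cancel_right, vOf_comm _ (hyV b b.2) _ (hyV a a.2)])
  have hdisj : Disjoint ψ.range ψ.ker := by
    rw [disjoint_iff, eq_bot_iff]
    rintro w ⟨⟨a, rfl⟩, hw⟩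
    rw [mem_bot]
    have e : ⁅⁅(a : G), y⁆, y⁆ = 1 := congrArg Subtype.val (MonoidHom.mem_ker.1 hw)
    have h1 := commutatorElement_eq_one_iff_mul_comm.1 e
    refine Subtype.ext (inv_eq_one.1 (eq_one_of_conj_eq ((Cfsg.Lib.Core.pCore_isPGroup p G).to_le vOf_le) (v := (a : G)) hy
      (inv_mem (hyV a a.2)) ?_ ?_))
    · exact mul_inv_eq_iff_eq_mul.2 (Commute.inv_left (show Commute ⁅(a : G), y⁆ y from h1)).symm.eq
    · show y * (a : G) * y⁻¹ = ⁅(a : G), y⁆⁻¹ * a
      simp only [commutatorElement_def]; group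
  have hsup : ψ.range ⊔ ψ.ker = ⊤ := by
    refine Subgroup.eq_top_of_card_eq _ (le_antisymm (Subgroup.card_le_card_group _) ?_)
    haveI : ψ.ker.Normal := inferInstance
    have e := card_sup_mul_inf (A := ψ.ker) (B := ψ.range) (by rw [normalizer_eq_top]; exact le_top)
    rw [inf_comm, hdisj.eq_bot, Subgroup.card_bot, mul_one, sup_comm] at e
    rw [e, Subgroup.card_eq_card_quotient_mul_card_subgroup ψ.ker,
      Nat.card_congr (QuotientGroup.quotientKerEquivRange ψ).toEquiv, mul_comm]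
  obtain ⟨w, ⟨a, ha⟩, k, hk, e⟩ := mem_sup_of_normal_right.1 (hsup.ge (mem_top (⟨v, hv⟩ : ↥(vOf p G))))
  refine ⟨(w : G), w.2, ?_, ?_⟩
  · rw [← ha, ← Subgroup.coe_pow, ← map_pow]
    have hpow : ((a : G) ^ p) * y = y * (a : G) ^ p := by
      have := e3 (a : G) a.2
      rw [← e1] at this
      exact mem_centralizer_singleton_iff.1 this.2
    show ⁅((a ^ p : ↥(vOf p G)) : G), y⁆ = 1
    rw [Subgroup.coe_pow]
    exact commutatorElement_eq_one_iff_mul_comm.2 hpow
  · have : (w : G)⁻¹ * v = (k : G) := by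
      rw [show v = (w : G) * k from (congrArg Subtype.val e).symm, inv_mul_cancel_left]
    rw [this]
    exact hD k k.2 (commutatorElement_eq_one_iff_mul_comm.1 (congrArg Subtype.val (MonoidHom.mem_ker.1 hk)))

/-- A minimal centrally large subgroup outside `Q` can be moved into `Q`. -/
theorem Hyp.shift (hc : centralizer (V : Set G) ⊔ (S : Subgroup G) ≠ ⊤) (hi : (ZS).relIndex V = p ^ n)
    {R : Subgroup G} (hR : MCLIn (S : Subgroup G) R) (hRQ : ¬ R ≤ Q) :
    MCLIn (S : Subgroup G) ((R ⊓ Q) ⊔ V) ∧ (R ⊓ Q) ⊔ V ≤ Q ∧ (R ⊓ Q) ⊔ zcIn R = R ∧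
    ∃ z ∈ zcIn R, z ∉ Q := by
  set R1 := R ⊓ Q with hR1
  set z1 := zcIn R ⊓ Q with hz1
  set R' := R1 ⊔ V with hR'
  have hR'Q : R' ≤ Q := sup_le inf_le_right vOf_le
  have hR'S : R' ≤ (S : Subgroup G) := hR'Q.trans pCore_le
  have hpos : 0 < p ^ n := pow_pos (Fact.out : p.Prime).pos n
  obtain ⟨u, huR, huQ⟩ := SetLike.not_le_iff_exists.1 hRQ
  have hu := hR.1.1 huR
  obtain ⟨hXu, -⟩ := h.fixed hc hi hu huQ
  have hZR : ZS ≤ zcIn R := fun z hz => mem_inf.2
    ⟨hR.1.centralizer_le ⟨hz.1, centralizer_le hR.1.1 hz.2⟩, centralizer_le hR.1.1 hz.2⟩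
  have hzV : z1 ⊓ V = ZS := by
    refine le_antisymm (fun x hx => hXu ▸ mem_inf.2 ⟨hx.2, mem_centralizer_singleton_iff.2 ?_⟩)
      (le_inf (le_inf hZR (h.center_le_vOf.trans vOf_le)) h.center_le_vOf)
    exact (zcIn_comm hx.1.1 huR).symm
  have hzle : z1 ⊔ V ≤ zcIn R' := by
    refine sup_le (fun x hx => mem_inf.2 ⟨mem_sup_left ⟨hx.1.1, hx.2⟩, ?_⟩)
      (fun x hx => mem_inf.2 ⟨mem_sup_right hx, ?_⟩)
    · exact mem_centralizer_iff.2 fun y hy => mem_centralizer_singleton_iff.1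
        ((sup_le (fun y hy => mem_centralizer_singleton_iff.2 (zcIn_comm hx.1 hy.1)) fun y hy =>
          mem_centralizer_singleton_iff.2 (mem_centralizer_iff.1 hy.2 x hx.2).symm :
            R' ≤ centralizer ({x} : Set G)) hy)
    · exact mem_centralizer_iff.2 fun y hy => mem_centralizer_iff.1 hx.2 y (hR'Q hy)
  have hcardz : Nat.card ↥(z1 ⊔ V) = Nat.card ↥z1 * p ^ n := by
    have e := card_sup_mul_inf (A := V) (B := z1) (by rw [normalizer_eq_top]; exact le_top)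
    rw [sup_comm, inf_comm, hzV, ← Cfsg.Lib.Core.card_mul_relIndex (h.center_le_vOf : ZS ≤ V), hi] at e
    refine Nat.eq_of_mul_eq_mul_right (Nat.card_pos (α := ↥(ZS))) (e.trans ?_)
    ring
  have hfR' : Nat.card ↥R' * (Nat.card ↥z1 * p ^ n) ≤ clVal R' := by
    rw [← hcardz]
    exact Nat.mul_le_mul_left _ (card_le_of_le hzle)
  have hmax : clVal R' ≤ clVal R := hR.1.2 _ hR'S
  have hiR : Nat.card ↥R1 * (Q).relIndex R = Nat.card ↥R := by
    rw [← inf_relIndex_left, Cfsg.Lib.Core.card_mul_relIndex inf_le_left]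
  have hiz : Nat.card ↥z1 * (Q).relIndex (zcIn R) = Nat.card ↥(zcIn R) := by
    rw [← inf_relIndex_left, Cfsg.Lib.Core.card_mul_relIndex inf_le_left]
  have ha : (Q).relIndex R ≤ p ^ n :=
    (relIndex_le_of_le_right hR.1.1 index_ne_zero_of_finite).trans h.relIndex_le
  have hb : (Q).relIndex (zcIn R) ≤ (Q).relIndex R :=
    relIndex_le_of_le_right inf_le_left index_ne_zero_of_finite
  have hfR : clVal R = Nat.card ↥R1 * Nat.card ↥z1 * ((Q).relIndex R * (Q).relIndex (zcIn R)) := by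
    rw [clVal, ← hiR, ← hiz]; ring
  have hR1pos : 0 < Nat.card ↥R1 := Nat.card_pos
  have hz1pos : 0 < Nat.card ↥z1 := Nat.card_pos
  by_cases hzQ : zcIn R ≤ Q
  · exfalso
    have hb1 : (Q).relIndex (zcIn R) = 1 := relIndex_eq_one.2 hzQ
    have hfle : clVal R ≤ Nat.card ↥R1 * Nat.card ↥z1 * p ^ n := by
      rw [hfR, hb1, mul_one]
      exact Nat.mul_le_mul_left _ ha
    rcases (le_sup_left : R1 ≤ R').eq_or_lt with e | hlt
    · have e' : R' = R1 := e.symm
      rw [e'] at hfR'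
      have hCL : CLIn (S : Subgroup G) R1 := by
        refine ⟨inf_le_left.trans hR.1.1, fun C hC => ((hR.1.2 C hC).trans hfle).trans ?_⟩
        rw [mul_assoc]
        exact hfR'
      exact hRQ ((hR.2 R1 inf_le_left hCL).ge.trans inf_le_right)
    · have hlt' : Nat.card ↥R1 < Nat.card ↥R' := lt_of_le_of_ne (card_le_of_le hlt.le)
        fun e => hlt.ne (Subgroup.eq_of_le_of_card_ge hlt.le e.ge)
      have h1 := Nat.mul_lt_mul_of_pos_right hlt' (Nat.mul_pos hz1pos hpos)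
      rw [mul_assoc] at hfle
      omega
  obtain ⟨z, hz, hzQ⟩ := SetLike.not_le_iff_exists.1 hzQ
  have hRV : R1 ⊓ V = ZS := by
    refine le_antisymm (fun x hx => ?_) (le_inf (le_inf (hZR.trans inf_le_left) (h.center_le_vOf.trans vOf_le))
      h.center_le_vOf)
    rw [← (h.fixed hc hi (hR.1.1 hz.1) hzQ).1]
    exact mem_inf.2 ⟨hx.2, mem_centralizer_singleton_iff.2 (zcIn_comm hz hx.1.1)⟩
  have hcardR' : Nat.card ↥R' = Nat.card ↥R1 * p ^ n := by
    have e := card_sup_mul_inf (A := V) (B := R1) (by rw [normalizer_eq_top]; exact le_top)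
    rw [sup_comm, inf_comm, hRV, ← Cfsg.Lib.Core.card_mul_relIndex (h.center_le_vOf : ZS ≤ V), hi] at e
    refine Nat.eq_of_mul_eq_mul_right (Nat.card_pos (α := ↥(ZS))) (e.trans ?_)
    ring
  rw [hcardR'] at hfR'
  have hge : clVal R ≤ clVal R' := by
    refine le_trans (le_trans (le_of_eq hfR) (Nat.mul_le_mul_left _ (Nat.mul_le_mul ha (hb.trans ha)))) ?_
    exact le_trans (le_of_eq (by ring)) hfR'
  have hab : (Q).relIndex R * (Q).relIndex (zcIn R) = p ^ n * p ^ n := by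
    refine le_antisymm (Nat.mul_le_mul ha (hb.trans ha)) ?_
    refine Nat.le_of_mul_le_mul_left ?_ (Nat.mul_pos hR1pos hz1pos)
    rw [← hfR]
    exact le_trans (le_trans (le_of_eq (by ring)) hfR') hmax
  have haq : (Q).relIndex R = p ^ n := le_antisymm ha (Nat.le_of_mul_le_mul_right
    (hab.ge.trans (Nat.mul_le_mul_left _ (hb.trans ha))) hpos)
  have hbq : (Q).relIndex (zcIn R) = p ^ n := by
    rw [haq] at hab
    exact Nat.eq_of_mul_eq_mul_left hpos hab
  have hCL : CLIn (S : Subgroup G) R' := ⟨hR'S, fun C hC => (hR.1.2 C hC).trans hge⟩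
  refine ⟨?_, hR'Q, ?_, z, hz, hzQ⟩
  · obtain ⟨C, hC, hCR⟩ := hCL.exists_minimal
    rw [← Subgroup.eq_of_le_of_card_ge hCR]
    · exact hC
    · rw [← (hR.common hC).2, hcardR', ← hiR, haq]
  · refine Subgroup.eq_of_le_of_card_ge (sup_le inf_le_left inf_le_left) ?_
    have hn : zcIn R ≤ normalizer (R1 : Set G) :=
      le_trans (fun x hx => mem_centralizer_iff.2 fun y hy => zcIn_comm hx hy.1 :
        zcIn R ≤ centralizer (R1 : Set G)) (centralizer_le_normalizer _)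
    have e := card_sup_mul_inf hn
    have einf : R1 ⊓ zcIn R = z1 := by
      rw [hR1, hz1, inf_right_comm, inf_eq_right.2 (show zcIn R ≤ R from inf_le_left)]
    rw [einf, ← hiz, hbq] at e
    rw [← hiR, haq]
    refine le_of_eq (Nat.eq_of_mul_eq_mul_right hz1pos (e.trans ?_)).symm
    ring

/-- The Frattini subgroups of the minimal centrally large subgroups with the largest centres. -/
theorem Hyp.phi_shift (hc : centralizer (V : Set G) ⊔ (S : Subgroup G) ≠ ⊤) (hi : (ZS).relIndex V = p ^ n)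
    {R : Subgroup G} (hR : MCLIn (S : Subgroup G) R) (hRQ : ¬ R ≤ Q)
    (hmax : ∀ C, MCLIn (S : Subgroup G) C → Nat.card ↥(omIn p C) ≤ Nat.card ↥(omIn p R)) :
    Nat.card ↥(omIn p R) ≤ Nat.card ↥(omIn p ((R ⊓ Q) ⊔ V)) ∧ phiIn p R ≤ phiIn p ((R ⊓ Q) ⊔ V) := by
  obtain ⟨hM, hR'Q, hsplit, z, hz, hzQ⟩ := h.shift hc hi hR hRQ
  set R' := (R ⊓ Q) ⊔ V with hR'
  obtain ⟨hXz, hVgen⟩ := h.fixed hc hi (hR.1.1 hz.1) hzQ
  set OV := Cfsg.omegaOne p V with hOV
  set O1 := omIn p R ⊓ Q with hO1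
  have hOVV : OV ≤ V := (closure_le _).2 fun x hx => hx.1
  have hOVmem : ∀ {x}, x ∈ OV ↔ x ∈ V ∧ x ^ p = 1 := mem_omegaOne_of_comm vOf_comm
  have hZOV : OV ⊔ ZS = V := le_antisymm (sup_le hOVV h.center_le_vOf) fun v hv => by
    obtain ⟨w, hw, hwp, hwv⟩ := hVgen v hv
    simpa using mul_mem_sup (hOVmem.2 ⟨hw, hwp⟩) hwv
  have hOVidx : (OV ⊓ ZS).relIndex OV = p ^ n := by
    have e := card_sup_mul_inf (A := ZS) (B := OV) (fun w hw => mem_normalizer_fintype fun x hx => by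
      rw [vOf_comm w (hOVV hw) x (h.center_le_vOf hx), mul_inv_cancel_right]; exact hx)
    rw [sup_comm, hZOV, ← Cfsg.Lib.Core.card_mul_relIndex (h.center_le_vOf : ZS ≤ V), hi,
      ← Cfsg.Lib.Core.card_mul_relIndex (inf_le_left : OV ⊓ ZS ≤ OV), inf_comm (ZS) OV] at e
    refine (Nat.eq_of_mul_eq_mul_left (Nat.mul_pos (Nat.card_pos (α := ↥(ZS)))
      (Nat.card_pos (α := ↥(OV ⊓ ZS : Subgroup G)))) ?_).symm
    rw [← mul_assoc] at e
    linarith [e]
  have hO1V : O1 ⊓ OV = OV ⊓ ZS := by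
    refine le_antisymm (fun x hx => mem_inf.2 ⟨hx.2, ?_⟩) fun x hx => ?_
    · rw [← hXz]
      exact mem_inf.2 ⟨hOVV hx.2, mem_centralizer_singleton_iff.2 (zcIn_comm (mem_omIn.1 hx.1.1).1 hz.1).symm⟩
    · have hxV := h.center_le_vOf hx.2
      have hxc := centralizer_le hR.1.1 hx.2.2
      exact mem_inf.2 ⟨mem_inf.2 ⟨mem_omIn.2 ⟨mem_inf.2 ⟨hR.1.centralizer_le ⟨hx.2.1, hxc⟩, hxc⟩,
        (hOVmem.1 hx.1).2⟩, vOf_le hxV⟩, hx.1⟩
  have hlow : O1 ⊔ OV ≤ omIn p R' := by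
    refine sup_le (fun x hx => ?_) fun x hx => ?_
    · obtain ⟨hxz, hxp⟩ := mem_omIn.1 hx.1
      refine mem_omIn.2 ⟨mem_inf.2 ⟨mem_sup_left ⟨hxz.1, hx.2⟩, ?_⟩, hxp⟩
      have hle : R' ≤ centralizer ({x} : Set G) := sup_le
        (fun y hy => mem_centralizer_singleton_iff.2 (zcIn_comm hxz hy.1))
        fun y hy => mem_centralizer_singleton_iff.2 (mem_centralizer_iff.1 hy.2 x hx.2).symm
      exact mem_centralizer_iff.2 fun y hy => mem_centralizer_singleton_iff.1 (hle hy)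
    · obtain ⟨hxV, hxp⟩ := hOVmem.1 hx
      exact mem_omIn.2 ⟨mem_inf.2 ⟨mem_sup_right hxV, mem_centralizer_iff.2 fun y hy =>
        mem_centralizer_iff.1 hxV.2 y (hR'Q hy)⟩, hxp⟩
  have hcard : Nat.card ↥(O1 ⊔ OV) = Nat.card ↥O1 * p ^ n := by
    have e := card_sup_mul_inf (A := O1) (B := OV) (le_trans (fun w hw => mem_centralizer_iff.2 fun y hy =>
      mem_centralizer_iff.1 (hOVV hw).2 y hy.2 : OV ≤ centralizer (O1 : Set G))
        (centralizer_le_normalizer _))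
    rw [hO1V, ← Cfsg.Lib.Core.card_mul_relIndex (inf_le_left : OV ⊓ ZS ≤ OV), hOVidx] at e
    refine Nat.eq_of_mul_eq_mul_right (Nat.card_pos (α := ↥(OV ⊓ ZS : Subgroup G))) (e.trans ?_)
    ring
  have hiO : Nat.card ↥O1 * (Q).relIndex (omIn p R) = Nat.card ↥(omIn p R) := by
    rw [← inf_relIndex_left, Cfsg.Lib.Core.card_mul_relIndex inf_le_left]
  have hOle : omIn p R ≤ (S : Subgroup G) := fun x hx => hR.1.1 (mem_omIn.1 hx).1.1
  have hbound : (Q).relIndex (omIn p R) ≤ p ^ n :=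
    (relIndex_le_of_le_right hOle index_ne_zero_of_finite).trans h.relIndex_le
  have hlow' := card_le_of_le hlow
  rw [hcard] at hlow'
  refine ⟨hiO ▸ (Nat.mul_le_mul_left _ hbound).trans hlow', ?_⟩
  have hidx : (Q).relIndex (omIn p R) = p ^ n := le_antisymm hbound
    (Nat.le_of_mul_le_mul_left ((hlow'.trans (hmax R' hM)).trans hiO.ge) Nat.card_pos)
  have hzsplit : (zcIn R ⊓ Q) ⊔ omIn p R = zcIn R := by
    refine Subgroup.eq_of_le_of_card_ge (sup_le inf_le_left fun x hx => (mem_omIn.1 hx).1) ?_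
    have e := card_sup_mul_inf (A := zcIn R ⊓ Q) (B := omIn p R) (fun w hw => mem_normalizer_fintype fun x hx => by
      rw [← zcIn_comm (mem_omIn.1 hw).1 hx.1.1, mul_inv_cancel_right]; exact hx)
    have einf : zcIn R ⊓ Q ⊓ omIn p R = O1 := le_antisymm (le_inf inf_le_right (inf_le_left.trans inf_le_right))
      fun x hx => ⟨⟨(mem_omIn.1 hx.1).1, hx.2⟩, hx.1⟩
    rw [einf, ← hiO, hidx] at e
    have hz' : Nat.card ↥(zcIn R ⊓ Q : Subgroup G) * (Q).relIndex (zcIn R) = Nat.card ↥(zcIn R) := by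
      rw [← inf_relIndex_left, Cfsg.Lib.Core.card_mul_relIndex inf_le_left]
    have hle : (Q).relIndex (zcIn R) ≤ p ^ n := (relIndex_le_of_le_right
      (inf_le_left.trans hR.1.1) index_ne_zero_of_finite).trans h.relIndex_le
    have e2 : Nat.card ↥((zcIn R ⊓ Q) ⊔ omIn p R) = Nat.card ↥(zcIn R ⊓ Q : Subgroup G) * p ^ n :=
      Nat.eq_of_mul_eq_mul_right (Nat.card_pos (α := ↥O1)) (e.trans (by ring))
    rw [e2, ← hz']
    exact Nat.mul_le_mul_left _ hle
  refine sup_le ((hR.common hM).1.le.trans le_sup_left) ((closure_le _).2 ?_)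
  rintro _ ⟨r, hr, rfl⟩
  refine mem_sup_right ?_
  haveI : ((R ⊓ Q : Subgroup G).subgroupOf R).Normal := by
    rw [inf_comm, inf_subgroupOf_right]; infer_instance
  obtain ⟨a, ha, c, hcz, rfl⟩ : ∃ a ∈ R ⊓ Q, ∃ c ∈ zcIn R, a * c = r := by
    have hn : zcIn R ≤ normalizer ((R ⊓ Q : Subgroup G) : Set G) :=
      le_trans (fun x hx => mem_centralizer_iff.2 fun y hy => zcIn_comm hx hy.1 :
        zcIn R ≤ centralizer ((R ⊓ Q : Subgroup G) : Set G)) (centralizer_le_normalizer _)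
    have hr' : r ∈ (R ⊓ Q) ⊔ zcIn R := hsplit.symm ▸ hr
    rw [← SetLike.mem_coe, Subgroup.coe_mul_of_right_le_normalizer_left _ _ hn] at hr'
    exact Set.mem_mul.1 hr'
  obtain ⟨c0, hc0, w, hw, rfl⟩ : ∃ c0 ∈ zcIn R ⊓ Q, ∃ w ∈ omIn p R, c0 * w = c := by
    have hn : omIn p R ≤ normalizer ((zcIn R ⊓ Q : Subgroup G) : Set G) := fun w hw =>
      mem_normalizer_fintype fun x hx => by
        rw [← zcIn_comm (mem_omIn.1 hw).1 hx.1.1, mul_inv_cancel_right]; exact hx
    rw [← hzsplit, ← SetLike.mem_coe, Subgroup.coe_mul_of_right_le_normalizer_left _ _ hn] at hcz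
    exact Set.mem_mul.1 hcz
  have c1 : Commute a (c0 * w) := zcIn_comm (mul_mem hc0.1 (mem_omIn.1 hw).1) ha.1
  have c2 : Commute c0 w := (zcIn_comm hc0.1 (mem_omIn.1 hw).1.1).symm
  refine Subgroup.subset_closure ⟨a * c0, mem_sup_left ⟨mul_mem ha.1 hc0.1.1, mul_mem ha.2 hc0.2⟩, ?_⟩
  show (a * c0) ^ p = (a * (c0 * w)) ^ p
  rw [c1.mul_pow, c2.mul_pow, (mem_omIn.1 hw).2, mul_one,
    (show Commute a c0 from zcIn_comm hc0.1 ha.1).mul_pow]

end

/-- `Z(S) ∩ [R, R]` is normal, or the join of the minimal centrally large subgroups is. -/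
theorem Hyp.commutator_normal (h : Hyp S F n K)
    (hJ : (S : Subgroup G) ≤ centralizer (ZJ (S : Subgroup G) : Set G)) {R : Subgroup G}
    (hR : MCLIn (S : Subgroup G) R) :
    (ZS ⊓ ⁅R, R⁆).Normal ∨ (sSup {C | MCLIn (S : Subgroup G) C}).Normal := by
  by_cases hZ : ZS ≤ center G
  · exact .inl (normal_of_le_center (inf_le_left.trans hZ))
  obtain ⟨hc, hi⟩ := h.data hJ hZ
  by_cases hall : ∀ C, MCLIn (S : Subgroup G) C → C ≤ Q
  · refine .inr ⟨fun x hx g => ?_⟩
    have hle : cj g (sSup {C | MCLIn (S : Subgroup G) C}) ≤ sSup {C | MCLIn (S : Subgroup G) C} := by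
      rw [map_le_iff_le_comap]
      refine sSup_le fun C hC => ?_
      rw [← map_le_iff_le_comap]
      exact le_sSup (hC.conj pCore_le (hall C hC) g).1
    exact hle ⟨x, hx, rfl⟩
  push Not at hall
  obtain ⟨C, hC, hCQ⟩ := hall
  obtain ⟨hC', hC'Q, -, z, hz, hzQ⟩ := h.shift hc hi hC hCQ
  left
  have hD : (⁅R, R⁆).Normal := ⟨fun x hx g => by
    have hm : cj g ⁅R, R⁆ = ⁅R, R⁆ := by
      rw [(hR.common hC').1, Subgroup.map_commutator]
      exact ((hC'.conj pCore_le hC'Q g).1.common hC').1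
    exact hm.le ⟨x, hx, rfl⟩⟩
  have e : ZS ⊓ ⁅R, R⁆ = V ⊓ ⁅R, R⁆ := by
    refine le_antisymm (inf_le_inf_right _ h.center_le_vOf) fun x hx => mem_inf.2 ⟨?_, hx.2⟩
    rw [← (h.fixed hc hi (hC.1.1 hz.1) hzQ).1]
    refine mem_inf.2 ⟨hx.1, mem_centralizer_singleton_iff.2 (zcIn_comm hz ?_)⟩
    have hx2 := (hR.common hC).1.le hx.2
    exact (commutator_le_self C) hx2
  rw [e]
  infer_instance

/-- `Z(S)` is normal, or the join of the Frattini subgroups of the minimal centrally large subgroups with the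
largest centres is. -/
theorem Hyp.frattini_normal (h : Hyp S F n K)
    (hJ : (S : Subgroup G) ≤ centralizer (ZJ (S : Subgroup G) : Set G)) :
    (ZS).Normal ∨ (sSup {L | ∃ C, MCLIn (S : Subgroup G) C ∧
      (∀ C', MCLIn (S : Subgroup G) C' → Nat.card ↥(omIn p C') ≤ Nat.card ↥(omIn p C)) ∧
      L = phiIn p C}).Normal := by
  by_cases hZ : ZS ≤ center G
  · exact .inl (normal_of_le_center hZ)
  obtain ⟨hc, hi⟩ := h.data hJ hZ
  set 𝓕 := {L | ∃ C, MCLIn (S : Subgroup G) C ∧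
      (∀ C', MCLIn (S : Subgroup G) C' → Nat.card ↥(omIn p C') ≤ Nat.card ↥(omIn p C)) ∧
      L = phiIn p C}
  refine .inr ⟨fun x hx g => ?_⟩
  have hle : cj g (sSup 𝓕) ≤ sSup 𝓕 := by
    rw [map_le_iff_le_comap]
    refine sSup_le ?_
    rintro _ ⟨C, hC, hmax, rfl⟩
    rw [← map_le_iff_le_comap]
    suffices key : ∀ C, MCLIn (S : Subgroup G) C → C ≤ Q →
        (∀ C', MCLIn (S : Subgroup G) C' → Nat.card ↥(omIn p C') ≤ Nat.card ↥(omIn p C)) →
        cj g (phiIn p C) ≤ sSup 𝓕 by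
      by_cases hCQ : C ≤ Q
      · exact key C hC hCQ hmax
      obtain ⟨hC', hC'Q, -, -⟩ := h.shift hc hi hC hCQ
      obtain ⟨hom, hphi⟩ := h.phi_shift hc hi hC hCQ hmax
      exact (map_mono hphi).trans (key _ hC' hC'Q fun D hD => (hmax D hD).trans hom)
    intro C hC hCQ hmax
    refine le_sSup ⟨cj g C, (hC.conj pCore_le hCQ g).1, fun D hD => ?_, map_phiIn _ p C⟩
    rw [← map_omIn _ (MulAut.conj g).injective, card_map_of_injective (MulAut.conj g).injective]
    exact hmax D hD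
  exact hle ⟨x, hx, rfl⟩

end Cfsg.Lib.Local.Baumann
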