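import Cfsg.Agent.Lib.Local.Baumann.Setup

/-!
The structure of `Z(J(S))` in rank one pushing up, and its consequences.
-/

set_option autoImplicit false
set_option linter.style.haveILetI false
set_option maxHeartbeats 800000

namespace Cfsg.Lib.Local.Baumann

open Subgroup GlaubermanZJ
open scoped commutatorElement

variable {G : Type*} [Group G] [Finite G] {p : ℕ} [Fact p.Prime] {S : Sylow p G} {F : Type} [Field F]
  [Fintype F] {n : ℕ} {K : Subgroup G} [K.Normal]

local notation "J" => Cfsg.thompsonSubgroupAOf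
local notation "ZJ" => Cfsg.centerThompsonAOf

theorem le_thompson {P A : Subgroup G} (hA : IsMaxAbIn P A) : A ≤ J P := by
  rw [thompsonSubgroupAOf_eq]
  exact le_sSup (show A ∈ {A | IsMaxAbIn P A} from hA)

theorem thompson_le_of_forall {P R : Subgroup G} (h : ∀ A, IsMaxAbIn P A → A ≤ R) : J P ≤ R := by
  rw [thompsonSubgroupAOf_eq]
  exact sSup_le h

theorem mem_zj_of_forall {P : Subgroup G} {z : G} (hz : z ∈ P)
    (hc : ∀ a ∈ J P, a * z = z * a) : z ∈ ZJ P := by
  obtain ⟨A, hA⟩ := exists_isMaxAbIn P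
  refine ⟨le_thompson hA (hA.mem_of_commute hz fun a ha => (hc a (le_thompson hA ha)).symm), ?_⟩
  exact mem_centralizer_iff.2 hc

theorem thompson_le (P : Subgroup G) : J P ≤ P := thompson_le_of_forall fun _ hA => hA.1

theorem center_le_zj (P : Subgroup G) : P ⊓ centralizer (P : Set G) ≤ ZJ P := fun z hz =>
  mem_zj_of_forall hz.1 fun a ha => mem_centralizer_iff.1 hz.2 a (thompson_le P ha)

theorem le_normalizer_thompson (P : Subgroup G) : P ≤ normalizer (J P : Set G) := fun g hg =>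
  Cfsg.Lib.Core.mem_normalizer_iff_map_conj.2 (by
    rw [map_thompsonSubgroupAOf, Cfsg.Lib.Core.map_conj_eq_of_mem_normalizer (le_normalizer hg)])

theorem zj_normal_of_normal (P : Subgroup G) [hP : P.Normal] : (ZJ P).Normal :=
  normalizer_eq_top_iff.1 (top_le_iff.1 ((normalizer_eq_top_iff.2 hP).ge.trans
    (normalizer_le_normalizer_centerThompsonAOf P)))

theorem normal_of_le_center {Z : Subgroup G} (h : Z ≤ center G) : Z.Normal :=
  ⟨fun z hz g => by rwa [mem_center_iff.1 (h hz) g, mul_inv_cancel_right]⟩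

/-- The intersection of `S` with a normal subgroup is a Sylow subgroup of its normal closure. -/
theorem sylow_normalClosure_of_eq (S : Sylow p G) {N B : Subgroup G} [N.Normal]
    (hB : B = (S : Subgroup G) ⊓ N) :
    ∃ P : Sylow p ↥(normalClosure (B : Set G)),
      (P : Subgroup ↥(normalClosure (B : Set G))) = B.subgroupOf (normalClosure (B : Set G)) := by
  subst hB
  obtain ⟨P, hP⟩ := exists_sylow_inf S (normalClosure (((S : Subgroup G) ⊓ N : Subgroup G) : Set G))
  refine ⟨P, hP.trans ?_⟩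
  have hle : normalClosure (((S : Subgroup G) ⊓ N : Subgroup G) : Set G) ≤ N :=
    normalClosure_le_normal (show (S : Subgroup G) ⊓ N ≤ N from inf_le_right)
  ext x
  rw [mem_subgroupOf, mem_subgroupOf]
  exact ⟨fun h => mem_inf.2 ⟨h, hle x.2⟩, fun h => (mem_inf.1 h).1⟩

section
variable (h : Hyp S F n K)
include h

/-- If `J(S) ≤ O_p(G)`. -/
theorem Hyp.easy (hJ : ∀ A, IsMaxAbIn (S : Subgroup G) A → A ≤ Cfsg.pCore p G) :
    (ZJ (S : Subgroup G)).Normal ∧
      ((ZJ (S : Subgroup G) ⊓ centralizer ((S : Subgroup G) : Set G) ≤ center G) ∨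
        ((S : Subgroup G) ⊓ centralizer (ZJ (S : Subgroup G) : Set G)).Normal) := by
  have hiff : ∀ A, IsMaxAbIn (S : Subgroup G) A ↔ IsMaxAbIn (Cfsg.pCore p G) A := by
    intro A
    obtain ⟨A₀, hA₀⟩ := exists_isMaxAbIn (S : Subgroup G)
    refine ⟨fun hA => ⟨hJ A hA, hA.2.1, fun C hC => hA.2.2 C (hC.trans pCore_le)⟩, fun hA =>
      ⟨hA.1.trans pCore_le, hA.2.1, fun C hC hCc => ?_⟩⟩
    exact (hA₀.2.2 C hC hCc).trans (hA.2.2 A₀ (hJ A₀ hA₀) hA₀.2.1)
  have hJeq : J (S : Subgroup G) = J (Cfsg.pCore p G) :=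
    le_antisymm (thompson_le_of_forall fun A hA => le_thompson ((hiff A).1 hA))
      (thompson_le_of_forall fun A hA => le_thompson ((hiff A).2 hA))
  have hZeq : ZJ (S : Subgroup G) = ZJ (Cfsg.pCore p G) := by
    unfold Cfsg.centerThompsonAOf; rw [hJeq]
  haveI hZn : (ZJ (S : Subgroup G)).Normal := hZeq ▸ zj_normal_of_normal _
  refine ⟨hZn, ?_⟩
  by_cases hc : centralizer (ZJ (S : Subgroup G) : Set G) ⊔ (S : Subgroup G) = ⊤
  · left
    rintro z ⟨hz, hzS⟩
    have hle : centralizer (ZJ (S : Subgroup G) : Set G) ⊔ (S : Subgroup G) ≤ centralizer ({z} : Set G) :=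
      sup_le (fun g hg => mem_centralizer_singleton_iff.2 (mem_centralizer_iff.1 hg z hz).symm)
        (fun g hg => mem_centralizer_singleton_iff.2 (mem_centralizer_iff.1 hzS g hg))
    rw [hc] at hle
    exact mem_center_iff.2 fun g => mem_centralizer_singleton_iff.1 (hle (mem_top g))
  · right
    have hB : (S : Subgroup G) ⊓ centralizer (ZJ (S : Subgroup G) : Set G) =
        Cfsg.pCore p G ⊓ centralizer (ZJ (S : Subgroup G) : Set G) :=
      le_antisymm (le_inf (h.inf_le_pCore hc) inf_le_right) (inf_le_inf_right _ pCore_le)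
    rw [hB]; infer_instance

/-- If `J(S) ≰ O_p(G)` and `Z(S)` is not forced central, then `Z(J(S)) = Z(S) (W ∩ C(L))`. -/
theorem Hyp.zj_eq (hc : centralizer (vOf p G : Set G) ⊔ (S : Subgroup G) ≠ ⊤) {A₀ : Subgroup G}
    (hA₀ : IsMaxAbIn (S : Subgroup G) A₀) (hA₀Q : ¬ A₀ ≤ Cfsg.pCore p G) :
    (∀ v ∈ vOf p G, v ^ p ∈ center G) ∧
    ∃ N : Subgroup G, N.Normal ∧
      ZJ (S : Subgroup G) = ((S : Subgroup G) ⊓ centralizer ((S : Subgroup G) : Set G)) ⊔ N ∧
      N ⊓ centralizer ((S : Subgroup G) : Set G) ≤ center G := by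
  obtain ⟨hsup, hX₀, hB₀, hpow, -, g₀, hg₀, hVgen⟩ := h.key hc hA₀ hA₀Q
  set Q := Cfsg.pCore p G with hQ
  set V := vOf p G with hV
  set T := J (S : Subgroup G) with hT
  set W := ZJ Q with hW
  set ZS := (S : Subgroup G) ⊓ centralizer ((S : Subgroup G) : Set G) with hZS
  haveI : W.Normal := zj_normal_of_normal Q
  have hB₀Q : IsMaxAbIn Q ((A₀ ⊓ Q) ⊔ V) :=
    ⟨sup_le inf_le_right vOf_le, hB₀.2.1, fun C hC => hB₀.2.2 C (hC.trans pCore_le)⟩
  have hmaxQ : ∀ C, IsMaxAbIn Q C → IsMaxAbIn (S : Subgroup G) C := fun C hC =>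
    ⟨hC.1.trans pCore_le, hC.2.1, fun D hD hDc => (hB₀.2.2 D hD hDc).trans (hC.2.2 _ hB₀Q.1 hB₀Q.2.1)⟩
  have hJQ : J Q ≤ T := thompson_le_of_forall fun C hC => le_thompson (hmaxQ C hC)
  have hVW : V ≤ W := fun v hv => mem_zj_of_forall hv.1 fun a ha =>
    mem_centralizer_iff.1 hv.2 a (thompson_le Q ha)
  have hWQ : W ≤ Q := centerThompsonAOf_le Q
  have hWc : ∀ a ∈ W, ∀ b ∈ W, a * b = b * a := fun a ha b hb =>
    mem_centralizer_iff.1 hb.2 a ha.1
  have hVg : ∀ g : G, V.map (MulAut.conj g).toMonoidHom = V := fun g =>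
    Cfsg.Lib.Core.map_conj_eq_of_mem_normalizer (by rw [normalizer_eq_top]; exact mem_top g)
  -- commutators with `W`
  let R : Subgroup G :=
    { carrier := {g | ∀ w ∈ W, g * w * g⁻¹ * w⁻¹ ∈ V}
      one_mem' := fun w _ => by simp
      mul_mem' := by
        intro a b ha hb w hw
        have := mul_mem (ha _ ((inferInstance : W.Normal).conj_mem w hw b)) (hb w hw)
        simpa [mul_assoc] using this
      inv_mem' := by
        intro a ha w hw
        have := inv_mem (ha _ ((inferInstance : W.Normal).conj_mem w hw a⁻¹))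
        simpa [mul_assoc] using this }
  haveI : R.Normal := ⟨fun x hx g w hw => by
    have h1 := (inferInstance : V.Normal).conj_mem _ (hx _ ((inferInstance : W.Normal).conj_mem w hw g⁻¹)) g
    simpa [mul_assoc] using h1⟩
  have hTR : T ≤ R := by
    refine thompson_le_of_forall fun A hA a ha w hw => ?_
    by_cases hAQ : A ≤ Q
    · have hAQm : IsMaxAbIn Q A := ⟨hAQ, hA.2.1, fun C hC => hA.2.2 C (hC.trans pCore_le)⟩
      have := mem_centralizer_iff.1 hw.2 a (le_thompson hAQm ha)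
      rw [this]; simp
    · obtain ⟨-, -, hB, -⟩ := h.key hc hA hAQ
      have hBQ : IsMaxAbIn Q ((A ⊓ Q) ⊔ V) :=
        ⟨sup_le inf_le_right vOf_le, hB.2.1, fun C hC => hB.2.2 C (hC.trans pCore_le)⟩
      obtain ⟨a', ha', v, hv, rfl⟩ := mem_sup_of_normal_right.1 (centerThompsonAOf_le_of_isMaxAbIn hBQ hw)
      have hcom : a * a' = a' * a := congrArg Subtype.val (hA.2.1.is_comm.comm ⟨a, ha⟩ ⟨a', ha'.1⟩)
      have e : a * (a' * v) * a⁻¹ * (a' * v)⁻¹ = a' * (a * v * a⁻¹ * v⁻¹) * a'⁻¹ := by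
        calc a * (a' * v) * a⁻¹ * (a' * v)⁻¹ = (a * a') * v * a⁻¹ * v⁻¹ * a'⁻¹ := by group
          _ = _ := by rw [hcom]; group
      rw [e]
      exact (inferInstance : V.Normal).conj_mem _
        (mul_mem ((inferInstance : V.Normal).conj_mem v hv a) (inv_mem hv)) a'
  set T' := T.map (MulAut.conj g₀).toMonoidHom with hT'
  set L := T ⊔ T' with hL
  have hQg : Q.map (MulAut.conj g₀).toMonoidHom = Q :=
    Cfsg.Lib.Core.map_conj_eq_of_mem_normalizer (by rw [normalizer_eq_top]; exact mem_top g₀)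
  have hLQ : L ⊔ Q = ⊤ := by
    refine top_le_iff.1 (hg₀.ge.trans (sup_le ?_ ?_))
    · rw [← hsup]
      exact sup_le ((le_thompson hA₀).trans (le_sup_left.trans le_sup_left)) le_sup_right
    · rw [← hsup, Subgroup.map_sup, hQg]
      exact sup_le ((map_mono (le_thompson hA₀)).trans (le_sup_right.trans le_sup_left)) le_sup_right
  haveI hLn : L.Normal := by
    refine normalizer_eq_top_iff.1 (top_le_iff.1 (hLQ.ge.trans (sup_le le_normalizer fun q hq => ?_)))
    refine Cfsg.Lib.Core.mem_normalizer_iff_map_conj.2 ?_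
    rw [hL, Subgroup.map_sup]
    congr 1
    · exact Cfsg.Lib.Core.map_conj_eq_of_mem_normalizer (le_normalizer_thompson _ (pCore_le hq))
    · refine Cfsg.Lib.Core.map_conj_eq_of_mem_normalizer ?_
      rw [hT', map_thompsonSubgroupAOf]
      refine le_normalizer_thompson _ ?_
      rw [← hQg] at hq
      exact map_mono pCore_le hq
  have hLR : L ≤ R := sup_le hTR ((map_mono hTR).trans (by
    rw [Cfsg.Lib.Core.map_conj_eq_of_mem_normalizer (by rw [normalizer_eq_top]; exact mem_top g₀)]))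
  have hLS : L ⊔ (S : Subgroup G) = ⊤ := top_le_iff.1 (hLQ.ge.trans (sup_le_sup_left pCore_le _))
  -- the centre of `J(S)`
  set Z := ZJ (S : Subgroup G) with hZ
  have hZW : Z ≤ W := by
    intro z hz
    have hzB := centerThompsonAOf_le_of_isMaxAbIn hB₀ hz
    exact ⟨le_thompson hB₀Q hzB, mem_centralizer_iff.2 fun a ha => mem_centralizer_iff.1 hz.2 a (hJQ ha)⟩
  have hWZ : W ⊓ centralizer (T : Set G) ≤ Z := fun w hw =>
    mem_zj_of_forall (pCore_le (hWQ hw.1)) fun a ha => mem_centralizer_iff.1 hw.2 a ha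
  have hZc : Z ≤ centralizer (T : Set G) := inf_le_right
  have hZg : Z.map (MulAut.conj g₀).toMonoidHom ≤ W ⊓ centralizer (T' : Set G) := by
    rintro _ ⟨z, hz, rfl⟩
    refine mem_inf.2 ⟨(inferInstance : W.Normal).conj_mem z (hZW hz) g₀, mem_centralizer_iff.2 ?_⟩
    rintro _ ⟨t, ht, rfl⟩
    show (MulAut.conj g₀).toMonoidHom t * (MulAut.conj g₀).toMonoidHom z =
      (MulAut.conj g₀).toMonoidHom z * (MulAut.conj g₀).toMonoidHom t
    rw [← map_mul, ← map_mul, mem_centralizer_iff.1 (hZc hz) t ht]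
  haveI hZVn : (Z ⊔ V).Normal := by
    refine normalizer_eq_top_iff.1 (top_le_iff.1 (hLS.ge.trans (sup_le (fun l hl => ?_) fun s hs => ?_)))
    · refine mem_normalizer_fintype fun x hx => ?_
      have h1 := mul_mem (mem_sup_right (S := Z) (hLR hl x (sup_le hZW hVW hx))) hx
      simpa using h1
    · refine Cfsg.Lib.Core.mem_normalizer_iff_map_conj.2 ?_
      rw [Subgroup.map_sup, hVg, Cfsg.Lib.Core.map_conj_eq_of_mem_normalizer
        (normalizer_le_normalizer_centerThompsonAOf _ (le_normalizer hs))]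
  refine ⟨hpow, W ⊓ centralizer (L : Set G), inferInstance, le_antisymm ?_ ?_, ?_⟩
  · intro z hz
    have hz' : z ∈ Z.map (MulAut.conj g₀).toMonoidHom ⊔ V := by
      have h1 : (Z ⊔ V).map (MulAut.conj g₀).toMonoidHom = Z ⊔ V :=
        Cfsg.Lib.Core.map_conj_eq_of_mem_normalizer (by rw [normalizer_eq_top]; exact mem_top g₀)
      rw [Subgroup.map_sup, hVg] at h1
      exact h1.ge (mem_sup_left hz)
    obtain ⟨d, hd, v, hv, rfl⟩ := mem_sup_of_normal_right.1 hz'
    have hZSV : ZS ≤ V := h.center_le_vOf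
    have hZSV' : ZS.map (MulAut.conj g₀).toMonoidHom ≤ V := (map_mono hZSV).trans (hVg g₀).le
    have hcomm : ⁅ZS, ZS.map (MulAut.conj g₀).toMonoidHom⁆ = ⊥ :=
      Cfsg.Lib.Core.commutator_eq_bot_iff_forall.2 fun a ha b hb => vOf_comm a (hZSV ha) b (hZSV' hb)
    obtain ⟨v₁, hv₁, v₂, hv₂, rfl⟩ := (Cfsg.Lib.Core.mem_sup_of_commute hcomm).1 (hVgen hv)
    have hd₂ : d * v₂ ∈ W ⊓ centralizer (T' : Set G) :=
      mul_mem (hZg hd) (hZg (map_mono (center_le_zj _) hv₂))
    have hv₁Z : v₁ ∈ Z := center_le_zj _ hv₁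
    have e : d * v₂ = d * (v₁ * v₂) * v₁⁻¹ := by
      rw [vOf_comm v₁ (hZSV hv₁) v₂ (hZSV' hv₂)]; group
    have hd₁ : d * v₂ ∈ centralizer (T : Set G) := by
      rw [e]; exact hZc (mul_mem hz (inv_mem hv₁Z))
    have hdN : d * v₂ ∈ W ⊓ centralizer (L : Set G) := by
      refine mem_inf.2 ⟨(mem_inf.1 hd₂).1, ?_⟩
      have hle : L ≤ centralizer ({d * v₂} : Set G) := sup_le
        (fun t ht => mem_centralizer_singleton_iff.2 (mem_centralizer_iff.1 hd₁ t ht))
        (fun t ht => mem_centralizer_singleton_iff.2 (mem_centralizer_iff.1 (mem_inf.1 hd₂).2 t ht))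
      exact mem_centralizer_iff.2 fun t ht => mem_centralizer_singleton_iff.1 (hle ht)
    have e2 : d * (v₁ * v₂) = (d * v₂) * v₁ := by
      rw [vOf_comm v₁ (hZSV hv₁) v₂ (hZSV' hv₂)]; group
    rw [e2]
    exact mul_mem (mem_sup_right hdN) (mem_sup_left hv₁)
  · exact sup_le (center_le_zj _) ((inf_le_inf_left W (centralizer_le (le_sup_left : T ≤ L))).trans hWZ)
  · rintro z ⟨⟨-, hzL⟩, hzS⟩
    have hle : L ⊔ (S : Subgroup G) ≤ centralizer ({z} : Set G) := sup_le
      (fun t ht => mem_centralizer_singleton_iff.2 (mem_centralizer_iff.1 hzL t ht))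
      (fun t ht => mem_centralizer_singleton_iff.2 (mem_centralizer_iff.1 hzS t ht))
    rw [hLS] at hle
    exact mem_center_iff.2 fun x => mem_centralizer_singleton_iff.1 (hle (mem_top x))

/-- Baumann: `C_S(Z(J(S)))` is a Sylow subgroup of its normal closure. -/
theorem Hyp.sylow_closure (hZ : ¬ ((S : Subgroup G) ⊓ centralizer ((S : Subgroup G) : Set G)).Normal) :
    ∃ P : Sylow p ↥(normalClosure ((((S : Subgroup G) ⊓ centralizer (ZJ (S : Subgroup G) : Set G)) : Subgroup G) : Set G)),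
      (P : Subgroup ↥(normalClosure ((((S : Subgroup G) ⊓ centralizer (ZJ (S : Subgroup G) : Set G)) : Subgroup G) : Set G))) =
        ((S : Subgroup G) ⊓ centralizer (ZJ (S : Subgroup G) : Set G)).subgroupOf _ := by
  by_cases hJ : ∀ A, IsMaxAbIn (S : Subgroup G) A → A ≤ Cfsg.pCore p G
  · haveI := (h.easy hJ).1
    exact sylow_normalClosure_of_eq S (N := centralizer (ZJ (S : Subgroup G) : Set G)) rfl
  · push Not at hJ
    obtain ⟨A₀, hA₀, hA₀Q⟩ := hJ
    have hc : centralizer (vOf p G : Set G) ⊔ (S : Subgroup G) ≠ ⊤ := fun e =>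
      hZ (normal_of_le_center (h.center_central e))
    obtain ⟨-, N, hN, hZeq, -⟩ := h.zj_eq hc hA₀ hA₀Q
    haveI := hN
    refine sylow_normalClosure_of_eq S (N := centralizer (N : Set G)) ?_
    refine le_antisymm (inf_le_inf_left _ (centralizer_le ?_)) fun s hs => mem_inf.2 ⟨hs.1, ?_⟩
    · rw [hZeq]; exact fun x hx => mem_sup_right hx
    · have hle : ZJ (S : Subgroup G) ≤ centralizer ({s} : Set G) := by
        rw [hZeq]
        exact sup_le (fun x hx => mem_centralizer_singleton_iff.2 (mem_centralizer_iff.1 hx.2 s hs.1).symm)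
          (fun x hx => mem_centralizer_singleton_iff.2 (mem_centralizer_iff.1 hs.2 x hx))
      exact mem_centralizer_iff.2 fun x hx => mem_centralizer_singleton_iff.1 (hle hx)

/-- The case `[Z(J(S)), S] ≠ 1`. -/
theorem Hyp.commutator_case :
    (⁅ZJ (S : Subgroup G), (S : Subgroup G)⁆ ⊓ ((S : Subgroup G) ⊓ centralizer ((S : Subgroup G) : Set G))).Normal ∨
      ((S : Subgroup G) ⊓ centralizer (ZJ (S : Subgroup G) : Set G)).Normal := by
  set ZS := (S : Subgroup G) ⊓ centralizer ((S : Subgroup G) : Set G)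
  by_cases hJ : ∀ A, IsMaxAbIn (S : Subgroup G) A → A ≤ Cfsg.pCore p G
  · rcases (h.easy hJ).2 with h1 | h1
    · exact Or.inl (normal_of_le_center fun x hx => h1 ⟨center_le_zj _ hx.2, hx.2.2⟩)
    · exact Or.inr h1
  · push Not at hJ
    obtain ⟨A₀, hA₀, hA₀Q⟩ := hJ
    left
    refine normal_of_le_center ?_
    by_cases hc : centralizer (vOf p G : Set G) ⊔ (S : Subgroup G) = ⊤
    · exact inf_le_right.trans (h.center_central hc)
    · obtain ⟨-, N, hN, hZeq, hNc⟩ := h.zj_eq hc hA₀ hA₀Q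
      haveI := hN
      have hle : ⁅ZJ (S : Subgroup G), (S : Subgroup G)⁆ ≤ N := by
        rw [hZeq]
        refine commutator_le.2 fun z hz s hs => ?_
        obtain ⟨a, ha, d, hd, rfl⟩ := mem_sup_of_normal_right.1 hz
        have has : s * a = a * s := mem_centralizer_iff.1 (mem_inf.1 ha).2 s hs
        have e : ⁅a * d, s⁆ = a * (d * (s * d⁻¹ * s⁻¹)) * a⁻¹ := by
          have has' : a⁻¹ * s⁻¹ = s⁻¹ * a⁻¹ := by rw [← mul_inv_rev, has, mul_inv_rev]
          rw [commutatorElement_def]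
          calc a * d * s * (a * d)⁻¹ * s⁻¹ = a * (d * s * d⁻¹) * (a⁻¹ * s⁻¹) := by group
            _ = _ := by rw [has']; group
        rw [e]
        exact hN.conj_mem _ (mul_mem hd (hN.conj_mem _ (inv_mem hd) s)) a
      exact fun x hx => hNc ⟨hle hx.1, hx.2.2⟩

/-- The case `Z(S)` not elementary abelian. -/
theorem Hyp.power_case :
    (Cfsg.powerClosure p 1 ((S : Subgroup G) ⊓ centralizer ((S : Subgroup G) : Set G))).Normal ∨
      ((S : Subgroup G) ⊓ centralizer (ZJ (S : Subgroup G) : Set G)).Normal := by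
  set ZS := (S : Subgroup G) ⊓ centralizer ((S : Subgroup G) : Set G) with hZS
  have key : (∀ z ∈ ZS, z ^ p ∈ center G) → (Cfsg.powerClosure p 1 ZS).Normal := fun hh =>
    normal_of_le_center ((closure_le _).2 (by
      rintro _ ⟨x, hx, rfl⟩
      rw [pow_one]
      exact hh x hx))
  by_cases hc : centralizer (vOf p G : Set G) ⊔ (S : Subgroup G) = ⊤
  · exact Or.inl (key fun z hz => pow_mem (h.center_central hc hz) p)
  by_cases hJ : ∀ A, IsMaxAbIn (S : Subgroup G) A → A ≤ Cfsg.pCore p G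
  · rcases (h.easy hJ).2 with h1 | h1
    · exact Or.inl (key fun z hz => pow_mem (h1 ⟨center_le_zj _ hz, hz.2⟩) p)
    · exact Or.inr h1
  · push Not at hJ
    obtain ⟨A₀, hA₀, hA₀Q⟩ := hJ
    exact Or.inl (key fun z hz => (h.zj_eq hc hA₀ hA₀Q).1 z (h.center_le_vOf hz))

end

end Cfsg.Lib.Local.Baumann
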