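import Mathlib.GroupTheory.GroupAction.Quotient
import Mathlib.GroupTheory.PGroup
import Mathlib.Algebra.Group.Subgroup.Finite
import Mathlib.GroupTheory.Index
import Mathlib.FieldTheory.Finite.Basic
import Mathlib.Tactic.LinearCombination

/-!
An element of order prime to `p` in the group generated by two `p`-elements which each centralise a
subgroup of small index of an abelian `p`-group `V`: its fixed points are the intersection of the two
subgroups, and `V` modulo the fixed points has exponent `p`.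
-/

set_option autoImplicit false

namespace Cfsg.Lib.Local.Baumann

open Subgroup

variable {G : Type*} [Group G] [Finite G] {p : ℕ} [Fact p.Prime] {V : Subgroup G}

/-- A `p'`-element moving `v` by a fixed element `c` of a `p`-group fixes `v`. -/
theorem eq_one_of_conj_eq (hVp : IsPGroup p V) {y v c : G} (hy : (orderOf y).Coprime p) (hc : c ∈ V)
    (hyc : y * c * y⁻¹ = c) (h : y * v * y⁻¹ = c * v) : c = 1 := by
  have hpow : ∀ n : ℕ, y ^ n * v * (y ^ n)⁻¹ = c ^ n * v := by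
    intro n
    induction n with
    | zero => simp
    | succ n ih =>
      calc y ^ (n + 1) * v * (y ^ (n + 1))⁻¹ = y * (y ^ n * v * (y ^ n)⁻¹) * y⁻¹ := by
            rw [pow_succ' y n]; group
        _ = (y * c * y⁻¹) ^ n * (y * v * y⁻¹) := by rw [ih, conj_pow]; group
        _ = c ^ (n + 1) * v := by rw [hyc, h, pow_succ]; group
  have h1 := hpow (orderOf y)
  rw [pow_orderOf_eq_one, one_mul, inv_one, mul_one, eq_comm, mul_eq_right] at h1
  obtain ⟨k, hk⟩ := hVp.exists_orderOf_eq_pow ⟨c, hc⟩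
  rw [Subgroup.orderOf_mk] at hk
  exact orderOf_eq_one_iff.1 (Nat.eq_one_of_dvd_coprimes (hk ▸ hy.pow_right k)
    (orderOf_dvd_of_pow_eq_one h1) dvd_rfl)

/-- A `p'`-element fixing the elements of order `p` of an abelian `p`-group fixes the whole group. -/
theorem fix_of_fix_omega (hVp : IsPGroup p V) (hab : ∀ a ∈ V, ∀ b ∈ V, a * b = b * a) {y : G}
    (hy : (orderOf y).Coprime p) (hyV : y ∈ normalizer (V : Set G))
    (hfix : ∀ v ∈ V, v ^ p = 1 → y * v * y⁻¹ = v) : ∀ v ∈ V, y * v * y⁻¹ = v := by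
  suffices H : ∀ k : ℕ, ∀ v ∈ V, v ^ p ^ k = 1 → y * v * y⁻¹ = v by
    intro v hv
    obtain ⟨k, hk⟩ := hVp ⟨v, hv⟩
    exact H k v hv (congrArg Subtype.val hk)
  intro k
  induction k with
  | zero => intro v _ h; rw [pow_zero, pow_one] at h; subst h; simp
  | succ k ih =>
    intro v hv h
    have hfp : y * v ^ p * y⁻¹ = v ^ p := ih _ (pow_mem hv p) (by rw [← pow_mul, ← pow_succ', h])
    have hyv : y * v * y⁻¹ ∈ V := (mem_normalizer_iff.1 hyV v).1 hv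
    set c := y * v * y⁻¹ * v⁻¹ with hc
    have hcV : c ∈ V := mul_mem hyv (inv_mem hv)
    have hcp : c ^ p = 1 := by
      have hcm : Commute (y * v * y⁻¹) v⁻¹ := hab _ hyv _ (inv_mem hv)
      rw [hc, hcm.mul_pow, conj_pow, hfp, inv_pow, mul_inv_cancel]
    have hc1 := eq_one_of_conj_eq hVp (v := v) hy hcV (hfix c hcV hcp) (by rw [hc]; group)
    rw [hc, mul_inv_eq_one] at hc1
    exact hc1

omit [Finite G] in
/-- A `p`-element fixing a subgroup of index `p` acts trivially on the quotient. -/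
theorem conj_mod (hab : ∀ a ∈ V, ∀ b ∈ V, a * b = b * a) {u : G} {k : ℕ} (hu : u ^ p ^ k = 1)
    (huV : u ∈ normalizer (V : Set G)) {X : Subgroup G} (hXV : X ≤ V)
    (hidx : X.relIndex V = p) (hfix : ∀ x ∈ X, u * x * u⁻¹ = x) :
    ∀ v ∈ V, u * v * u⁻¹ * v⁻¹ ∈ X := by
  intro v hv
  by_cases hvX : v ∈ X
  · rw [hfix v hvX, mul_inv_cancel]; exact one_mem X
  letI : CommGroup ↥V := { (inferInstance : Group ↥V) with
    mul_comm := fun a b => Subtype.ext (hab _ a.2 _ b.2) }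
  set Q := ↥V ⧸ X.subgroupOf V
  have hQ : Nat.card Q = p := hidx
  set π : ↥V →* Q := QuotientGroup.mk' (X.subgroupOf V) with hπ
  have hne : π ⟨v, hv⟩ ≠ 1 := fun e => hvX (by
    have := (QuotientGroup.eq_one_iff (⟨v, hv⟩ : ↥V)).1 e
    simpa [mem_subgroupOf] using this)
  have hord : orderOf (π ⟨v, hv⟩) = p := by
    rcases (Nat.dvd_prime Fact.out).1 (hQ ▸ orderOf_dvd_natCard (π ⟨v, hv⟩)) with h | h
    · exact absurd (orderOf_eq_one_iff.1 h) hne
    · exact h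
  have hmem : ∀ w : G, (hw : w ∈ V) → ∃ a : ℕ, π ⟨w, hw⟩ = π ⟨v, hv⟩ ^ a := by
    intro w hw
    obtain ⟨a, ha⟩ := mem_powers_of_prime_card (g := π ⟨v, hv⟩) (g' := π ⟨w, hw⟩) hQ hne
    exact ⟨a, ha.symm⟩
  have hyv : u * v * u⁻¹ ∈ V := (mem_normalizer_iff.1 huV v).1 hv
  obtain ⟨a, ha⟩ := hmem _ hyv
  have hstep : ∀ n : ℕ, ∃ w, ∃ hw : w ∈ V, w = u ^ n * v * (u ^ n)⁻¹ ∧ π ⟨w, hw⟩ = π ⟨v, hv⟩ ^ a ^ n := by
    intro n
    induction n with
    | zero => exact ⟨v, hv, by simp, by simp⟩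
    | succ n ih =>
      obtain ⟨w, hw, hwe, hπw⟩ := ih
      refine ⟨u * w * u⁻¹, (mem_normalizer_iff.1 huV w).1 hw, ?_, ?_⟩
      · rw [hwe, pow_succ' u n]; group
      · have hd : w * (v ^ a ^ n)⁻¹ ∈ X := by
          have e : π (⟨w, hw⟩ * (⟨v, hv⟩ ^ a ^ n)⁻¹) = 1 := by
            rw [map_mul, map_inv, map_pow, hπw, mul_inv_cancel]
          have := (QuotientGroup.eq_one_iff _).1 e
          simpa [mem_subgroupOf] using this
        have e : (⟨u * w * u⁻¹, (mem_normalizer_iff.1 huV w).1 hw⟩ : ↥V) =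
            ⟨w * (v ^ a ^ n)⁻¹, hXV hd⟩ * ⟨u * v * u⁻¹, hyv⟩ ^ a ^ n := Subtype.ext (by
          show u * w * u⁻¹ = w * (v ^ a ^ n)⁻¹ * ((⟨u * v * u⁻¹, hyv⟩ ^ a ^ n : ↥V) : G)
          rw [SubmonoidClass.coe_pow, conj_pow]
          conv_rhs => rw [← hfix _ hd]
          group)
        have e0 : π ⟨w * (v ^ a ^ n)⁻¹, hXV hd⟩ = 1 :=
          (QuotientGroup.eq_one_iff _).2 (by simpa [mem_subgroupOf] using hd)
        rw [e, map_mul, e0, one_mul, map_pow, ha, ← pow_mul, pow_succ']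
  obtain ⟨w, hw, hwe, hπw⟩ := hstep (p ^ k)
  have hwv : w = v := by rw [hwe, hu]; group
  subst hwv
  have hmod : a ^ p ^ k ≡ 1 [MOD p] := by
    have h := pow_eq_pow_iff_modEq.1 ((hπw.symm).trans (pow_one (π ⟨w, hw⟩)).symm)
    rwa [hord] at h
  have ha1 : a ≡ 1 [MOD p] := by
    rw [← ZMod.natCast_eq_natCast_iff] at hmod ⊢
    push_cast at hmod ⊢
    rwa [ZMod.pow_card_pow] at hmod
  have hfin : π (⟨u * w * u⁻¹, hyv⟩ * ⟨w, hv⟩⁻¹) = 1 := by
    rw [map_mul, map_inv, ha, mul_inv_eq_one]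
    conv_rhs => rw [← pow_one (π ⟨w, hv⟩)]
    exact pow_eq_pow_iff_modEq.2 (by rw [hord]; exact ha1)
  have := (QuotientGroup.eq_one_iff _).1 hfin
  simpa [mem_subgroupOf] using this

/-- The intersection of two subgroups of index at most `p`. -/
theorem fixed_inf_eq (hVp : IsPGroup p V) (hab : ∀ a ∈ V, ∀ b ∈ V, a * b = b * a) {u u' : G}
    (hu : ∃ k, u ^ p ^ k = 1) (hu' : ∃ k, u' ^ p ^ k = 1)
    (huV : u ∈ normalizer (V : Set G)) (hu'V : u' ∈ normalizer (V : Set G))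
    {X X' : Subgroup G} (hXV : X ≤ V) (hX'V : X' ≤ V)
    (hX : X.relIndex V ≤ p) (hX' : X'.relIndex V ≤ p)
    (hfix : ∀ x ∈ X, u * x * u⁻¹ = x) (hfix' : ∀ x ∈ X', u' * x * u'⁻¹ = x)
    {y : G} (hy : y ∈ closure ({u, u'} : Set G)) (hyc : (orderOf y).Coprime p)
    (hne : ¬ ∀ v ∈ V, y * v * y⁻¹ = v) :
    V ⊓ centralizer ({y} : Set G) = X ⊓ X' ∧ (X ⊓ X').relIndex V = p ^ 2 ∧
      ∀ v ∈ V, v ^ p ∈ X ⊓ X' := by
  obtain ⟨k, hk⟩ := hu
  obtain ⟨k', hk'⟩ := hu'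
  have hcases : ∀ {X : Subgroup G}, X ≤ V → X.relIndex V ≤ p → X = V ∨ X.relIndex V = p := by
    intro X hXV hX
    obtain ⟨j, hj⟩ := (hVp.exists_card_eq : ∃ j, Nat.card V = p ^ j)
    have hd : X.relIndex V ∣ p ^ j := hj ▸ relIndex_dvd_card X V
    obtain ⟨i, -, hi⟩ := (Nat.dvd_prime_pow Fact.out).1 hd
    match i with
    | 0 => exact Or.inl (le_antisymm hXV (relIndex_eq_one.1 (by rw [hi, pow_zero])))
    | 1 => exact Or.inr (by rw [hi, pow_one])
    | i + 2 =>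
      exfalso
      rw [hi] at hX
      have h1 : p ^ 1 < p ^ (i + 2) := Nat.pow_lt_pow_right (Fact.out : p.Prime).one_lt (by omega)
      rw [pow_one] at h1; omega
  -- the comparable case
  have hcomp : ¬ (X ≤ X' ∨ X' ≤ X) := by
    intro hle
    apply hne
    obtain ⟨X0, hX0V, hX0, hf, hf'⟩ : ∃ X0, X0 ≤ V ∧ X0.relIndex V ≤ p ∧
        (∀ x ∈ X0, u * x * u⁻¹ = x) ∧ (∀ x ∈ X0, u' * x * u'⁻¹ = x) := by
      rcases hle with h | h
      · exact ⟨X, hXV, hX, hfix, fun x hx => hfix' x (h hx)⟩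
      · exact ⟨X', hX'V, hX', fun x hx => hfix x (h hx), hfix'⟩
    have hyfix : ∀ x ∈ X0, y * x * y⁻¹ = x := by
      intro x hx
      have : closure ({u, u'} : Set G) ≤ centralizer ({x} : Set G) := (closure_le _).2 (by
        rintro g (rfl | rfl)
        · exact mem_centralizer_singleton_iff.2 (mul_inv_eq_iff_eq_mul.1 (hf x hx))
        · exact mem_centralizer_singleton_iff.2 (mul_inv_eq_iff_eq_mul.1 (hf' x hx)))
      exact mul_inv_eq_iff_eq_mul.2 (mem_centralizer_singleton_iff.1 (this hy))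
    rcases hcases hX0V hX0 with e | hidx
    · exact fun v hv => hyfix v (e ▸ hv)
    · intro v hv
      let T : Subgroup G :=
        { carrier := {g | g ∈ normalizer (V : Set G) ∧ (∀ x ∈ X0, g * x * g⁻¹ = x) ∧
            ∀ w ∈ V, g * w * g⁻¹ * w⁻¹ ∈ X0}
          one_mem' := ⟨one_mem _, fun x _ => by simp, fun w _ => by simp⟩
          mul_mem' := by
            rintro a b ⟨ha, ha', ha''⟩ ⟨hb, hb', hb''⟩
            refine ⟨mul_mem ha hb, fun x hx => ?_, fun w hw => ?_⟩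
            · calc a * b * x * (a * b)⁻¹ = a * (b * x * b⁻¹) * a⁻¹ := by group
                _ = x := by rw [hb' x hx, ha' x hx]
            · have hbw : b * w * b⁻¹ ∈ V := (mem_normalizer_iff.1 hb w).1 hw
              have := mul_mem (ha'' _ hbw) (hb'' w hw)
              simpa [mul_assoc] using this
          inv_mem' := by
            rintro a ⟨ha, ha', ha''⟩
            refine ⟨inv_mem ha, fun x hx => ?_, fun w hw => ?_⟩
            · conv_lhs => rw [← ha' x hx]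
              group
            · have haw : a⁻¹ * w * a⁻¹⁻¹ ∈ V := (mem_normalizer_iff.1 (inv_mem ha) w).1 hw
              have := inv_mem (ha'' _ haw)
              simpa [mul_assoc] using this }
      have hT : closure ({u, u'} : Set G) ≤ T := (closure_le _).2 (by
        rintro g (rfl | rfl)
        · exact ⟨huV, hf, conj_mod hab hk huV hX0V hidx hf⟩
        · exact ⟨hu'V, hf', conj_mod hab hk' hu'V hX0V hidx hf'⟩)
      obtain ⟨-, -, hym⟩ := hT hy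
      have hc := hym v hv
      have h1 := eq_one_of_conj_eq hVp (v := v) (c := y * v * y⁻¹ * v⁻¹) hyc (hX0V hc) (hyfix _ hc)
        (by group)
      exact mul_inv_eq_one.1 h1
  push Not at hcomp
  have hXp : X.relIndex V = p := (hcases hXV hX).resolve_left fun e => hcomp.2 (e ▸ hX'V)
  have hX'p : X'.relIndex V = p := (hcases hX'V hX').resolve_left fun e => hcomp.1 (e ▸ hXV)
  obtain ⟨x, hx, hxX'⟩ := SetLike.not_le_iff_exists.1 hcomp.1
  obtain ⟨x', hx', hx'X⟩ := SetLike.not_le_iff_exists.1 hcomp.2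
  set D := X ⊓ X' with hD
  letI : CommGroup ↥V := { (inferInstance : Group ↥V) with
    mul_comm := fun a b => Subtype.ext (hab _ a.2 _ b.2) }
  have hexp : ∀ {Y : Subgroup G}, Y.relIndex V = p → ∀ v ∈ V, v ^ p ∈ Y := by
    intro Y hY v hv
    have hm := (Y.subgroupOf V).pow_index_mem (⟨v, hv⟩ : ↥V)
    rw [← relIndex, hY] at hm
    simpa [mem_subgroupOf] using hm
  have hpD : ∀ v ∈ V, v ^ p ∈ D := fun v hv => ⟨hexp hXp v hv, hexp hX'p v hv⟩
  -- exponents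
  have hgen : ∀ {Y Y' : Subgroup G}, Y ≤ V → Y'.relIndex V = p → ∀ z : G, z ∈ Y → z ∉ Y' →
      ∀ w ∈ Y, ∃ i : ℤ, w * (z ^ i)⁻¹ ∈ Y ⊓ Y' := by
    intro Y Y' hYV hY' z hz hz' w hw
    have hQ : Nat.card (↥V ⧸ Y'.subgroupOf V) = p := hY'
    obtain ⟨i, hi⟩ := mem_zpowers_of_prime_card (g := QuotientGroup.mk' (Y'.subgroupOf V) ⟨z, hYV hz⟩)
      (g' := QuotientGroup.mk' (Y'.subgroupOf V) ⟨w, hYV hw⟩) hQ (fun e => hz' (by
        have := (QuotientGroup.eq_one_iff _).1 e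
        simpa [mem_subgroupOf] using this))
    refine ⟨i, mem_inf.2 ⟨mul_mem hw (inv_mem (zpow_mem hz i)), ?_⟩⟩
    have e : QuotientGroup.mk' (Y'.subgroupOf V) (⟨w, hYV hw⟩ * (⟨z, hYV hz⟩ ^ i)⁻¹) = 1 := by
      rw [map_mul, map_inv, map_zpow]
      exact mul_inv_eq_one.2 hi.symm
    have := (QuotientGroup.eq_one_iff _).1 e
    simpa [mem_subgroupOf] using this
  have hspan : ∀ v ∈ V, ∃ i j : ℤ, v * (x ^ i * x' ^ j)⁻¹ ∈ D := by
    intro v hv
    have hQ : Nat.card (↥V ⧸ X'.subgroupOf V) = p := hX'p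
    obtain ⟨i, hi⟩ := mem_zpowers_of_prime_card (g := QuotientGroup.mk' (X'.subgroupOf V) ⟨x, hXV hx⟩)
      (g' := QuotientGroup.mk' (X'.subgroupOf V) ⟨v, hv⟩) hQ (fun e => hxX' (by
        have := (QuotientGroup.eq_one_iff _).1 e
        simpa [mem_subgroupOf] using this))
    have hw : (x ^ i)⁻¹ * v ∈ X' := by
      have e : QuotientGroup.mk' (X'.subgroupOf V) ((⟨x, hXV hx⟩ ^ i)⁻¹ * ⟨v, hv⟩) = 1 := by
        rw [map_mul, map_inv, map_zpow]
        exact inv_mul_eq_one.2 hi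
      have := (QuotientGroup.eq_one_iff _).1 e
      simpa [mem_subgroupOf] using this
    obtain ⟨j, hj⟩ := hgen hX'V hXp x' hx' hx'X _ hw
    refine ⟨i, j, ?_⟩
    have hj' : (x ^ i)⁻¹ * v * (x' ^ j)⁻¹ ∈ D := ⟨hj.2, hj.1⟩
    have hjV := hXV hj'.1
    have hxi : x ^ i ∈ V := zpow_mem (hXV hx) i
    have e : v * (x ^ i * x' ^ j)⁻¹ = (x ^ i)⁻¹ * v * (x' ^ j)⁻¹ := by
      calc v * (x ^ i * x' ^ j)⁻¹ = x ^ i * ((x ^ i)⁻¹ * v * (x' ^ j)⁻¹) * (x ^ i)⁻¹ := by group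
        _ = _ := by rw [hab _ hxi _ hjV]; group
    rw [e]; exact hj'
  -- coordinates
  let π : ↥V →* ↥V ⧸ D.subgroupOf V := QuotientGroup.mk' _
  have hπ1 : ∀ {w : G} (hw : w ∈ V), π ⟨w, hw⟩ = 1 ↔ w ∈ D := fun hw =>
    (QuotientGroup.eq_one_iff _).trans (by simp [mem_subgroupOf])
  set e₁ := π ⟨x, hXV hx⟩ with he₁
  set e₂ := π ⟨x', hX'V hx'⟩ with he₂
  have hindep : ∀ i j : ℤ, e₁ ^ i * e₂ ^ j = 1 → (p : ℤ) ∣ i ∧ (p : ℤ) ∣ j := by
    intro i j h
    have hmem : x ^ i * x' ^ j ∈ D := by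
      refine (hπ1 (mul_mem (zpow_mem (hXV hx) i) (zpow_mem (hX'V hx') j))).1 ?_
      rw [← h, he₁, he₂, ← map_zpow, ← map_zpow, ← map_mul]
      rfl
    have aux : ∀ {Y : Subgroup G}, Y.relIndex V = p → ∀ z : G, (hz : z ∈ V) → z ∉ Y →
        ∀ m : ℤ, z ^ m ∈ Y → (p : ℤ) ∣ m := by
      intro Y hY z hz hzY m hm
      have hQ : Nat.card (↥V ⧸ Y.subgroupOf V) = p := hY
      have hne : QuotientGroup.mk' (Y.subgroupOf V) ⟨z, hz⟩ ≠ 1 := fun e => hzY (by
        have := (QuotientGroup.eq_one_iff _).1 e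
        simpa [mem_subgroupOf] using this)
      have ho : orderOf (QuotientGroup.mk' (Y.subgroupOf V) ⟨z, hz⟩) = p := by
        rcases (Nat.dvd_prime Fact.out).1 (hQ ▸ orderOf_dvd_natCard
          (QuotientGroup.mk' (Y.subgroupOf V) ⟨z, hz⟩)) with h | h
        · exact absurd (orderOf_eq_one_iff.1 h) hne
        · exact h
      rw [← ho]
      refine orderOf_dvd_iff_zpow_eq_one.2 ?_
      rw [← map_zpow]
      exact (QuotientGroup.eq_one_iff _).2 (by simpa [mem_subgroupOf] using hm)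
    refine ⟨aux hX'p x (hXV hx) hxX' i ?_, aux hXp x' (hX'V hx') hx'X j ?_⟩
    · have := mul_mem (mem_inf.1 hmem).2 (inv_mem (zpow_mem hx' j))
      simpa using this
    · have := mul_mem (inv_mem (zpow_mem hx i)) (mem_inf.1 hmem).1
      simpa using this
  have hpow1 : ∀ (q : ↥V ⧸ D.subgroupOf V) (m : ℤ), (p : ℤ) ∣ m → q ^ m = 1 := by
    intro q m hm
    obtain ⟨⟨w, hw⟩, rfl⟩ := QuotientGroup.mk'_surjective _ q
    obtain ⟨l, rfl⟩ := hm
    rw [zpow_mul, zpow_natCast, ← map_pow]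
    have : π (⟨w, hw⟩ ^ p) = 1 := (hπ1 (pow_mem hw p)).2 (hpD w hw)
    show (π (⟨w, hw⟩ ^ p)) ^ l = 1
    rw [this, one_zpow]
  -- the action
  let Act : G → ℤ → ℤ → ℤ → ℤ → Prop := fun g a b c e =>
    (p : ℤ) ∣ a * e - b * c - 1 ∧ (∀ d ∈ D, g * d * g⁻¹ = d) ∧
      ∀ (i j : ℤ) (w : G) (hw : w ∈ V), π ⟨w, hw⟩ = e₁ ^ i * e₂ ^ j →
        ∃ hw' : g * w * g⁻¹ ∈ V, π ⟨g * w * g⁻¹, hw'⟩ = e₁ ^ (a * i + b * j) * e₂ ^ (c * i + e * j)
  have hAct1 : Act 1 1 0 0 1 := by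
    refine ⟨by simp, fun d _ => by simp, fun i j w hw h => ⟨by simpa using hw, ?_⟩⟩
    have : (⟨1 * w * 1⁻¹, by simpa using hw⟩ : ↥V) = ⟨w, hw⟩ := Subtype.ext (by simp)
    rw [this, h]
    simp
  have hActmul : ∀ g g' a b c e a' b' c' e', Act g a b c e → Act g' a' b' c' e' →
      Act (g * g') (a * a' + b * c') (a * b' + b * e') (c * a' + e * c') (c * b' + e * e') := by
    intro g g' a b c e a' b' c' e' h h'
    obtain ⟨hd, hf, hg⟩ := h
    obtain ⟨hd', hf', hg'⟩ := h'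
    refine ⟨?_, fun d hdD => ?_, fun i j w hw hw0 => ?_⟩
    · obtain ⟨s, hs⟩ := hd
      obtain ⟨t, ht⟩ := hd'
      exact ⟨s * (a' * e' - b' * c') + t, by linear_combination (a' * e' - b' * c') * hs + ht⟩
    · calc g * g' * d * (g * g')⁻¹ = g * (g' * d * g'⁻¹) * g⁻¹ := by group
        _ = d := by rw [hf' d hdD, hf d hdD]
    · obtain ⟨h1, h2⟩ := hg' i j w hw hw0
      obtain ⟨h3, h4⟩ := hg _ _ _ h1 h2
      have e0 : g * g' * w * (g * g')⁻¹ = g * (g' * w * g'⁻¹) * g⁻¹ := by group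
      refine ⟨e0 ▸ h3, ?_⟩
      have e1 : (⟨g * g' * w * (g * g')⁻¹, e0 ▸ h3⟩ : ↥V) = ⟨g * (g' * w * g'⁻¹) * g⁻¹, h3⟩ :=
        Subtype.ext e0
      rw [e1, h4]
      congr 2 <;> ring
  have hActgen : ∀ g : G, g ∈ normalizer (V : Set G) → ∀ a b c e : ℤ, (p : ℤ) ∣ a * e - b * c - 1 →
      (∀ d ∈ D, g * d * g⁻¹ = d) →
      (∃ h, π ⟨g * x * g⁻¹, h⟩ = e₁ ^ a * e₂ ^ c) → (∃ h, π ⟨g * x' * g⁻¹, h⟩ = e₁ ^ b * e₂ ^ e) →
      Act g a b c e := by
    rintro g hg a b c e hdet hfD ⟨hA, hA'⟩ ⟨hB, hB'⟩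
    refine ⟨hdet, hfD, fun i j w hw h => ⟨(mem_normalizer_iff.1 hg w).1 hw, ?_⟩⟩
    have hwd : w * (x ^ i * x' ^ j)⁻¹ ∈ D := by
      refine (hπ1 (mul_mem hw (inv_mem (mul_mem (zpow_mem (hXV hx) i) (zpow_mem (hX'V hx') j))))).1 ?_
      have e0 : (⟨w * (x ^ i * x' ^ j)⁻¹, mul_mem hw (inv_mem (mul_mem (zpow_mem (hXV hx) i)
          (zpow_mem (hX'V hx') j)))⟩ : ↥V) = ⟨w, hw⟩ * (⟨x, hXV hx⟩ ^ i * ⟨x', hX'V hx'⟩ ^ j)⁻¹ :=
        rfl
      rw [e0, map_mul, map_inv, map_mul, map_zpow, map_zpow, h, mul_inv_cancel]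
    have e0 : (⟨g * w * g⁻¹, (mem_normalizer_iff.1 hg w).1 hw⟩ : ↥V) =
        ⟨_, hXV hwd.1⟩ * (⟨g * x * g⁻¹, hA⟩ ^ i * ⟨g * x' * g⁻¹, hB⟩ ^ j) := Subtype.ext (by
      show g * w * g⁻¹ = w * (x ^ i * x' ^ j)⁻¹ * ((g * x * g⁻¹) ^ i * (g * x' * g⁻¹) ^ j)
      rw [conj_zpow, conj_zpow]
      conv_rhs => rw [← hfD _ hwd]
      group)
    rw [e0, map_mul, (hπ1 (hXV hwd.1)).2 hwd, one_mul, map_mul, map_zpow, map_zpow, hA', hB',
      mul_zpow, mul_zpow, ← zpow_mul, ← zpow_mul, ← zpow_mul, ← zpow_mul, mul_mul_mul_comm,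
      ← zpow_add, ← zpow_add]
  obtain ⟨hxc, hx'c⟩ : (∃ a, Act u 1 a 0 1) ∧ ∃ a, Act u' 1 0 a 1 := by
    constructor
    · have hxu : u * x * u⁻¹ = x := hfix x hx
      have hm := conj_mod hab hk huV hXV hXp hfix x' (hX'V hx')
      obtain ⟨a, ha⟩ := hgen hXV hX'p x hx hxX' _ hm
      refine ⟨a, hActgen u huV 1 a 0 1 (by simp) (fun d hd => hfix d hd.1) ⟨by rw [hxu]; exact hXV hx, ?_⟩
        ⟨(mem_normalizer_iff.1 huV x').1 (hX'V hx'), ?_⟩⟩
      · have : (⟨u * x * u⁻¹, by rw [hxu]; exact hXV hx⟩ : ↥V) = ⟨x, hXV hx⟩ := Subtype.ext hxu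
        rw [this]; simp [he₁]
      · have e0 : (⟨u * x' * u⁻¹, (mem_normalizer_iff.1 huV x').1 (hX'V hx')⟩ : ↥V) =
            ⟨u * x' * u⁻¹ * x'⁻¹ * (x ^ a)⁻¹, hXV ha.1⟩ * ⟨x, hXV hx⟩ ^ a * ⟨x', hX'V hx'⟩ :=
          Subtype.ext (by
            show u * x' * u⁻¹ = u * x' * u⁻¹ * x'⁻¹ * (x ^ a)⁻¹ * x ^ a * x'
            group)
        rw [e0, map_mul, map_mul, (hπ1 (hXV ha.1)).2 ha, one_mul, map_zpow, zpow_one]
    · have hxu : u' * x' * u'⁻¹ = x' := hfix' x' hx'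
      have hm := conj_mod hab hk' hu'V hX'V hX'p hfix' x (hXV hx)
      obtain ⟨a, ha⟩ := hgen hX'V hXp x' hx' hx'X _ hm
      refine ⟨a, hActgen u' hu'V 1 0 a 1 (by simp) (fun d hd => hfix' d hd.2)
        ⟨(mem_normalizer_iff.1 hu'V x).1 (hXV hx), ?_⟩ ⟨by rw [hxu]; exact hX'V hx', ?_⟩⟩
      · have e0 : (⟨u' * x * u'⁻¹, (mem_normalizer_iff.1 hu'V x).1 (hXV hx)⟩ : ↥V) =
            ⟨u' * x * u'⁻¹ * x⁻¹ * (x' ^ a)⁻¹, hX'V ha.1⟩ * ⟨x', hX'V hx'⟩ ^ a * ⟨x, hXV hx⟩ :=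
          Subtype.ext (by
            show u' * x * u'⁻¹ = u' * x * u'⁻¹ * x⁻¹ * (x' ^ a)⁻¹ * x' ^ a * x
            group)
        rw [e0, map_mul, map_mul, (hπ1 (hX'V ha.1)).2 ⟨ha.2, ha.1⟩, one_mul, map_zpow, zpow_one,
          mul_comm]
      · have : (⟨u' * x' * u'⁻¹, by rw [hxu]; exact hX'V hx'⟩ : ↥V) = ⟨x', hX'V hx'⟩ := Subtype.ext hxu
        rw [this]; simp [he₂]
  have hall : ∀ g ∈ closure ({u, u'} : Set G), ∃ a b c e, Act g a b c e := by
    intro g hg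
    rw [← mem_toSubmonoid, closure_toSubmonoid_of_finite] at hg
    induction hg using Submonoid.closure_induction with
    | mem g hg =>
      rcases hg with rfl | rfl
      · obtain ⟨a, ha⟩ := hxc; exact ⟨_, _, _, _, ha⟩
      · obtain ⟨a, ha⟩ := hx'c; exact ⟨_, _, _, _, ha⟩
    | one => exact ⟨_, _, _, _, hAct1⟩
    | mul g g' _ _ h h' =>
      obtain ⟨a, b, c, e, h⟩ := h
      obtain ⟨a', b', c', e', h'⟩ := h'
      exact ⟨_, _, _, _, hActmul _ _ _ _ _ _ _ _ _ _ h h'⟩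
  obtain ⟨a, b, c, e, hdet, hyD, hyA⟩ := hall y hy
  have hDle : D ≤ V ⊓ centralizer ({y} : Set G) := fun d hd => ⟨hXV hd.1,
    mem_centralizer_singleton_iff.2 (mul_inv_eq_iff_eq_mul.1 (hyD d hd)).symm⟩
  refine ⟨le_antisymm (fun z hz => ?_) hDle, ?_, hpD⟩
  · by_contra hzD
    apply hne
    obtain ⟨α, γ, hd⟩ := hspan z hz.1
    have hzπ : π ⟨z, hz.1⟩ = e₁ ^ α * e₂ ^ γ := by
      have e0 : (⟨z, hz.1⟩ : ↥V) = ⟨_, hXV hd.1⟩ * (⟨x, hXV hx⟩ ^ α * ⟨x', hX'V hx'⟩ ^ γ) :=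
        Subtype.ext (by
          show z = z * (x ^ α * x' ^ γ)⁻¹ * (x ^ α * x' ^ γ)
          group)
      rw [e0, map_mul, (hπ1 (hXV hd.1)).2 hd, one_mul, map_mul, map_zpow, map_zpow]
    obtain ⟨hw', hw''⟩ := hyA α γ z hz.1 hzπ
    have hyz : y * z * y⁻¹ = z :=
      mul_inv_eq_iff_eq_mul.2 (mem_centralizer_singleton_iff.1 hz.2).symm
    rw [show (⟨y * z * y⁻¹, hw'⟩ : ↥V) = ⟨z, hz.1⟩ from Subtype.ext hyz, hzπ] at hw''
    obtain ⟨h1, h2⟩ := hindep (a * α + b * γ - α) (c * α + e * γ - γ) (by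
      rw [zpow_sub, zpow_sub, mul_mul_mul_comm, ← mul_inv, ← hw'', mul_inv_cancel])
    have h0 : ¬ ((p : ℤ) ∣ α ∧ (p : ℤ) ∣ γ) := fun h => hzD ((hπ1 hz.1).1 (by
      rw [hzπ, hpow1 _ _ h.1, hpow1 _ _ h.2, one_mul]))
    have hpint : Prime (p : ℤ) := Nat.prime_iff_prime_int.1 Fact.out
    obtain ⟨K, hK⟩ : (p : ℤ) ∣ (a - 1) * (e - 1) - b * c := by
      rcases not_and_or.1 h0 with h | h
      · refine (hpint.dvd_mul.1 (?_ : (p : ℤ) ∣ ((a - 1) * (e - 1) - b * c) * α)).resolve_right h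
        have := dvd_sub (h1.mul_left (e - 1)) (h2.mul_left b)
        exact this.trans (dvd_of_eq (by ring))
      · refine (hpint.dvd_mul.1 (?_ : (p : ℤ) ∣ ((a - 1) * (e - 1) - b * c) * γ)).resolve_right h
        have := dvd_sub (h2.mul_left (a - 1)) (h1.mul_left c)
        exact this.trans (dvd_of_eq (by ring))
    obtain ⟨L, hL⟩ := hdet
    -- `(y - 1)² = 0` on the quotient
    have htr : (p : ℤ) ∣ a + e - 2 := ⟨L - K, by linear_combination hL - hK⟩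
    have hdiff : ∀ (i j : ℤ) (w : G) (hw : w ∈ V), π ⟨w, hw⟩ = e₁ ^ i * e₂ ^ j →
        ∃ hc : y * w * y⁻¹ * w⁻¹ ∈ V, π ⟨y * w * y⁻¹ * w⁻¹, hc⟩ =
          e₁ ^ ((a - 1) * i + b * j) * e₂ ^ (c * i + (e - 1) * j) := by
      intro i j w hw h
      obtain ⟨h3, h4⟩ := hyA i j w hw h
      refine ⟨mul_mem h3 (inv_mem hw), ?_⟩
      have e0 : (⟨y * w * y⁻¹ * w⁻¹, mul_mem h3 (inv_mem hw)⟩ : ↥V) = ⟨_, h3⟩ * ⟨w, hw⟩⁻¹ := rfl
      rw [e0, map_mul, map_inv, h4, h, mul_inv, mul_mul_mul_comm, ← zpow_neg, ← zpow_neg, ← zpow_add,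
        ← zpow_add]
      congr 2 <;> ring
    intro v hv
    obtain ⟨i, j, hij⟩ := hspan v hv
    have hvπ : π ⟨v, hv⟩ = e₁ ^ i * e₂ ^ j := by
      have e0 : (⟨v, hv⟩ : ↥V) = ⟨_, hXV hij.1⟩ * (⟨x, hXV hx⟩ ^ i * ⟨x', hX'V hx'⟩ ^ j) :=
        Subtype.ext (by
          show v = v * (x ^ i * x' ^ j)⁻¹ * (x ^ i * x' ^ j)
          group)
      rw [e0, map_mul, (hπ1 (hXV hij.1)).2 hij, one_mul, map_mul, map_zpow, map_zpow]
    obtain ⟨hc₁, hc₁'⟩ := hdiff i j v hv hvπ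
    obtain ⟨hc₂, hc₂'⟩ := hdiff _ _ _ hc₁ hc₁'
    set c₁ := y * v * y⁻¹ * v⁻¹ with hcd
    set c₂ := y * c₁ * y⁻¹ * c₁⁻¹ with hcd₂
    have hD₂ : c₂ ∈ D := (hπ1 hc₂).1 (by
      rw [hc₂', hpow1, hpow1, one_mul]
      · have e0 : c * ((a - 1) * i + b * j) + (e - 1) * (c * i + (e - 1) * j) =
            (a + e - 2) * (c * i + (e - 1) * j) - ((a - 1) * (e - 1) - b * c) * j := by ring
        rw [e0]
        exact dvd_sub (htr.mul_right _) (Dvd.dvd.mul_right ⟨K, hK⟩ _)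
      · have e0 : (a - 1) * ((a - 1) * i + b * j) + b * (c * i + (e - 1) * j) =
            (a + e - 2) * ((a - 1) * i + b * j) - ((a - 1) * (e - 1) - b * c) * i := by ring
        rw [e0]
        exact dvd_sub (htr.mul_right _) (Dvd.dvd.mul_right ⟨K, hK⟩ _))
    have h₂ : c₂ = 1 := eq_one_of_conj_eq hVp (v := c₁) hyc hc₂ (hyD _ hD₂) (by rw [hcd₂]; group)
    rw [hcd₂, mul_inv_eq_one] at h₂
    have h₁ : c₁ = 1 := eq_one_of_conj_eq hVp (v := v) hyc hc₁ h₂ (by rw [hcd]; group)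
    rw [hcd, mul_inv_eq_one] at h₁
    exact h₁
  · have hmul := relIndex_mul_relIndex D X' V inf_le_right hX'V
    have h1 : D.relIndex X' = p := by
      rw [hD, inf_relIndex_right]
      obtain ⟨j, hj⟩ := (hVp.to_le hX'V).exists_card_eq
      obtain ⟨i, -, hi⟩ := (Nat.dvd_prime_pow Fact.out).1 (hj ▸ relIndex_dvd_card X X')
      have hlt : X.relIndex X' ≤ p := hXp ▸ relIndex_le_of_le_right hX'V (by rw [hXp]; exact (Fact.out : p.Prime).ne_zero)
      match i with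
      | 0 => exact absurd (relIndex_eq_one.1 (by rw [hi, pow_zero])) hcomp.2
      | 1 => rw [hi, pow_one]
      | i + 2 =>
        exfalso
        rw [hi] at hlt
        have h1 : p ^ 1 < p ^ (i + 2) := Nat.pow_lt_pow_right (Fact.out : p.Prime).one_lt (by omega)
        rw [pow_one] at h1; omega
    rw [← hmul, h1, hX'p, pow_two]

/-- An element of `r`-power order moving `V` has fixed points of index at least `p ^ D`, when `D` is at
most the order of `p` modulo `r ^ (e + 1)` and the `r ^ e`-th power still moves `V`. -/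
theorem moved_index_bound (hVp : IsPGroup p V) {r e D : ℕ} (hr : r.Prime) (hrp : r ≠ p)
    (hD : ∀ k, 0 < k → r ^ (e + 1) ∣ p ^ k - 1 → D ≤ k) (g : G) {j : ℕ} (hg : orderOf g = r ^ j)
    (hgV : g ∈ normalizer (V : Set G)) (hne : g ^ r ^ e ∉ centralizer (V : Set G)) :
    p ^ D ≤ (V ⊓ centralizer ({g} : Set G)).relIndex V := by
  classical
  set C : Subgroup G := V ⊓ centralizer ({g ^ r ^ e} : Set G) with hC
  have hCV : C ≤ V := inf_le_left
  have hle : V ⊓ centralizer ({g} : Set G) ≤ C := by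
    refine inf_le_inf_left V fun v hv => ?_
    rw [mem_centralizer_singleton_iff] at hv ⊢
    exact (Commute.pow_right (show Commute v g from hv) _).eq
  refine le_trans ?_ (Nat.le_of_dvd (Nat.pos_of_ne_zero index_ne_zero_of_finite)
    (relIndex_dvd_of_le_left V hle))
  obtain ⟨a, ha⟩ := hVp.exists_card_eq
  obtain ⟨b, hb⟩ := (hVp.to_le hCV).exists_card_eq
  have hidx : Nat.card C * C.relIndex V = Nat.card V := by
    rw [← relIndex_bot_left, ← relIndex_bot_left, relIndex_mul_relIndex ⊥ C V bot_le hCV]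
  have hlt : C < V := lt_of_le_of_ne hCV fun h => hne (mem_centralizer_iff.2 fun v hv =>
    mem_centralizer_singleton_iff.1 (h.ge hv).2)
  have hba : b < a := by
    refine (Nat.pow_lt_pow_iff_right (Fact.out : p.Prime).one_lt).1 ?_
    rw [← ha, ← hb]
    exact lt_of_le_of_ne (card_le_of_le hCV) fun h => hlt.ne (eq_of_le_of_card_ge hCV h.ge)
  have hrel : C.relIndex V = p ^ (a - b) := by
    refine Nat.eq_of_mul_eq_mul_left (pow_pos (Fact.out : p.Prime).pos b) ?_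
    rw [← pow_add, Nat.add_sub_cancel' hba.le, ← ha, ← hidx, hb]
  rw [hrel]
  refine Nat.pow_le_pow_right (Fact.out : p.Prime).pos (hD _ (by omega) ?_)
  set K : Subgroup G := zpowers g with hK
  have hKN : K ≤ normalizer (V : Set G) := zpowers_le.2 hgV
  have hcomm : ∀ k : ↥K, Commute (k : G) (g ^ r ^ e) := by
    rintro ⟨k, i, rfl⟩
    exact ((Commute.refl g).zpow_left i).pow_right _
  have hmove : ∀ (k : ↥K) (v : G), v ∈ V ∧ v ∉ C →
      (k : G) * v * (k : G)⁻¹ ∈ V ∧ (k : G) * v * (k : G)⁻¹ ∉ C := by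
    intro k v hv
    refine ⟨(mem_normalizer_iff.1 (hKN k.2) v).1 hv.1, fun h => hv.2 ⟨hv.1, ?_⟩⟩
    have h' : Commute ((k : G) * v * (k : G)⁻¹) (g ^ r ^ e) := mem_centralizer_singleton_iff.1 h.2
    refine mem_centralizer_singleton_iff.2 ?_
    have h1 := ((hcomm k).inv_left.mul_left h').mul_left (hcomm k)
    rwa [show (k : G)⁻¹ * ((k : G) * v * (k : G)⁻¹) * (k : G) = v by group] at h1
  let M := {v : G // v ∈ V ∧ v ∉ C}
  letI act : MulAction ↥K M :=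
    { smul := fun k v => ⟨(k : G) * v.1 * (k : G)⁻¹, hmove k v.1 v.2⟩
      one_smul := fun v => Subtype.ext (by show ((1 : ↥K) : G) * v.1 * ((1 : ↥K) : G)⁻¹ = v.1; simp)
      mul_smul := fun k l v => Subtype.ext (by
        show ((k * l : ↥K) : G) * v.1 * ((k * l : ↥K) : G)⁻¹ =
          (k : G) * ((l : G) * v.1 * (l : G)⁻¹) * (k : G)⁻¹
        rw [Subgroup.coe_mul]; group) }
  have hdvdM : r ^ (e + 1) ∣ Nat.card M := by
    haveI := Fintype.ofFinite (MulAction.orbitRel.Quotient ↥K M)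
    rw [Nat.card_congr (MulAction.selfEquivSigmaOrbitsQuotientStabilizer ↥K M), Nat.card_sigma]
    refine Finset.dvd_sum fun ω _ => ?_
    rw [← Subgroup.index]
    set v := Quotient.out ω
    set T := MulAction.stabilizer ↥K v
    have hd : T.index ∣ r ^ j := by
      rw [← hg, ← Nat.card_zpowers]
      exact index_dvd_card T
    obtain ⟨i, -, hi⟩ := (Nat.dvd_prime_pow hr).1 hd
    rw [hi]
    refine pow_dvd_pow r ?_
    by_contra hlt
    have hm : (⟨g, mem_zpowers g⟩ : ↥K) ^ T.index ∈ T := T.pow_index_mem _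
    rw [hi] at hm
    have hm' : (g ^ r ^ i) * v.1 * (g ^ r ^ i)⁻¹ = v.1 := congrArg Subtype.val hm
    refine v.2.2 ⟨v.2.1, mem_centralizer_singleton_iff.2 ?_⟩
    have hc : Commute v.1 (g ^ r ^ i) := (mul_inv_eq_iff_eq_mul.1 hm').symm
    rw [show r ^ e = r ^ i * r ^ (e - i) by rw [← pow_add]; congr 1; omega, pow_mul]
    exact (hc.pow_right _).eq
  have hMcard : Nat.card M = p ^ b * (p ^ (a - b) - 1) := by
    have e1 : Nat.card M = ((V : Set G) \ (C : Set G)).ncard := rfl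
    have e2 : (V : Set G).ncard = p ^ a := ha
    have e3 : (C : Set G).ncard = p ^ b := hb
    rw [e1, Set.ncard_sdiff (fun x hx => hCV hx) (Set.toFinite _), e2, e3, Nat.mul_sub, mul_one, ← pow_add,
      Nat.add_sub_cancel' hba.le]
  rw [hMcard] at hdvdM
  exact (Nat.Coprime.pow_right b (((Nat.coprime_primes hr Fact.out).2 hrp).pow_left (e + 1))).dvd_of_dvd_mul_left hdvdM

/-- An element of large order prime to `p`. -/
theorem fixed_inf_eq_of_large (hVp : IsPGroup p V) (hab : ∀ a ∈ V, ∀ b ∈ V, a * b = b * a) {n r e : ℕ}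
    (hr : r.Prime) (hrp : r ≠ p) (hD : ∀ k, 0 < k → r ^ (e + 1) ∣ p ^ k - 1 → 2 * n ≤ k)
    {u u' y : G} {j : ℕ} {X X' : Subgroup G} (hXV : X ≤ V) (hX : X.relIndex V ≤ p ^ n) (hX' : X'.relIndex V ≤ p ^ n)
    (hfix : ∀ x ∈ X, u * x * u⁻¹ = x) (hfix' : ∀ x ∈ X', u' * x * u'⁻¹ = x)
    (hyH : y ∈ closure ({u, u'} : Set G)) (hyV : y ∈ normalizer (V : Set G))
    (hy : orderOf y = r ^ j) (hne : y ^ r ^ e ∉ centralizer (V : Set G)) :
    V ⊓ centralizer ({y} : Set G) = X ⊓ X' ∧ (X ⊓ X').relIndex V = p ^ (2 * n) ∧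
      ∀ v ∈ V, v ^ p ∈ X ⊓ X' := by
  set C := V ⊓ centralizer ({y} : Set G) with hC
  have hDC : X ⊓ X' ≤ C := fun x hx => ⟨hXV hx.1, mem_centralizer_singleton_iff.2 (by
    have : closure ({u, u'} : Set G) ≤ centralizer ({x} : Set G) := (closure_le _).2 (by
      rintro g (rfl | rfl)
      · exact mem_centralizer_singleton_iff.2 (mul_inv_eq_iff_eq_mul.1 (hfix x hx.1))
      · exact mem_centralizer_singleton_iff.2 (mul_inv_eq_iff_eq_mul.1 (hfix' x hx.2)))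
    exact (mem_centralizer_singleton_iff.1 (this hyH)).symm)⟩
  have hlow : p ^ (2 * n) ≤ C.relIndex V := moved_index_bound hVp hr hrp hD y hy hyV hne
  have hup : (X ⊓ X').relIndex V ≤ p ^ (2 * n) := by
    rw [two_mul, pow_add]
    exact relIndex_inf_le.trans (Nat.mul_le_mul hX hX')
  have hd : C.relIndex V ∣ (X ⊓ X').relIndex V := relIndex_dvd_of_le_left V hDC
  have hne0 : ∀ {A : Subgroup G}, A.relIndex V ≠ 0 := fun {A} => index_ne_zero_of_finite
  have hCle : C.relIndex V ≤ (X ⊓ X').relIndex V := Nat.le_of_dvd (Nat.pos_of_ne_zero hne0) hd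
  have heq : (X ⊓ X').relIndex V = p ^ (2 * n) := le_antisymm hup (hlow.trans hCle)
  have hCeq : C = X ⊓ X' := by
    refine (le_antisymm hDC (relIndex_eq_one.1 ?_)).symm
    have hmul := relIndex_mul_relIndex (X ⊓ X') C V hDC inf_le_left
    have e1 : C.relIndex V = p ^ (2 * n) := le_antisymm (hCle.trans heq.le) hlow
    rw [e1, heq] at hmul
    exact Nat.eq_of_mul_eq_mul_right (pow_pos (Fact.out : p.Prime).pos _) (hmul.trans (one_mul _).symm)
  refine ⟨hCeq, heq, fun v hv => ?_⟩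
  -- the elements of order `p`
  let W : Subgroup G :=
    { carrier := {w | w ∈ V ∧ w ^ p = 1}
      one_mem' := ⟨one_mem V, one_pow p⟩
      mul_mem' := by
        rintro a b ⟨ha, ha'⟩ ⟨hb, hb'⟩
        exact ⟨mul_mem ha hb, by rw [(show Commute a b from hab a ha b hb).mul_pow, ha', hb', one_mul]⟩
      inv_mem' := by
        rintro a ⟨ha, ha'⟩
        exact ⟨inv_mem ha, by rw [inv_pow, ha', inv_one]⟩ }
  have hWV : W ≤ V := fun w hw => hw.1
  have hyW : y ∈ normalizer (W : Set G) := mem_normalizer_fintype fun w hw =>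
    ⟨(mem_normalizer_iff.1 hyV w).1 hw.1, by rw [conj_pow, hw.2]; simp⟩
  have hneW : y ^ r ^ e ∉ centralizer (W : Set G) := by
    intro h
    refine hne (mem_centralizer_iff.2 fun w hw => ?_)
    have h1 : y ^ r ^ e * w * (y ^ r ^ e)⁻¹ = w := by
      refine fix_of_fix_omega hVp hab ?_ (pow_mem hyV _) (fun z hz hzp => ?_) w hw
      · refine Nat.Coprime.coprime_dvd_left (orderOf_pow_dvd (x := y) (r ^ e)) ?_
        rw [hy]
        exact ((Nat.coprime_primes hr Fact.out).2 hrp).pow_left _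
      · exact mul_inv_eq_iff_eq_mul.2 (mem_centralizer_iff.1 h z ⟨hz, hzp⟩).symm
    exact (mul_inv_eq_iff_eq_mul.1 h1).symm
  have hWlow : p ^ (2 * n) ≤ (W ⊓ centralizer ({y} : Set G)).relIndex W :=
    moved_index_bound (hVp.to_le hWV) hr hrp hD y hy hyW hneW
  have hWC : W ⊓ centralizer ({y} : Set G) = W ⊓ C := by
    rw [hC, ← inf_assoc, inf_eq_left.2 hWV]
  rw [hWC, inf_relIndex_left] at hWlow
  letI : CommGroup ↥V := { (inferInstance : Group ↥V) with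
    mul_comm := fun a b => Subtype.ext (hab _ a.2 _ b.2) }
  set f := QuotientGroup.mk' (C.subgroupOf V) with hf
  have hQ : Nat.card (↥V ⧸ C.subgroupOf V) = p ^ (2 * n) := by
    rw [← heq, ← hCeq]; rfl
  have hsurj : Function.Surjective (f.comp (inclusion hWV)) := by
    rw [← MonoidHom.range_eq_top]
    refine eq_top_of_le_card _ ?_
    rw [hQ]
    refine hWlow.trans (le_of_eq ?_)
    rw [← index_ker (f.comp (inclusion hWV))]
    have hk : (f.comp (inclusion hWV)).ker = C.subgroupOf W := by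
      ext w
      rw [MonoidHom.mem_ker, MonoidHom.comp_apply, hf, QuotientGroup.mk'_apply, QuotientGroup.eq_one_iff,
        mem_subgroupOf, mem_subgroupOf]
      rfl
    rw [hk]
    rfl
  obtain ⟨w, hw⟩ := hsurj (f ⟨v, hv⟩)
  have e0 : f (⟨v, hv⟩ ^ p) = 1 := by
    rw [map_pow, ← hw, ← map_pow]
    have : w ^ p = 1 := Subtype.ext w.2.2
    rw [this, map_one]
  have := (QuotientGroup.eq_one_iff _).1 e0
  rw [← hCeq]
  simpa [mem_subgroupOf] using this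

end Cfsg.Lib.Local.Baumann
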